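import Groth.Agent.RelQuot.Bundle
import Groth.Agent.VeryAmpleX.SigFT
import Groth.Agent.VeryAmpleX.SigCoprod
import Groth.Agent.VeryAmpleX.SigProduct
import Groth.Agent.VeryAmpleX.SigApps
import Groth.Agent.VeryAmpleX.Eventually
import Groth.Agent.RelTildeX.Invertible
import Groth.Agent.RelTwistX.Projective
import Groth.Agent.FittX.Sheaf

/-!
# Projective morphisms by finite type modules giving coordinates
-/

universe u

open CategoryTheory CategoryTheory.Limits AlgebraicGeometry TopologicalSpace Opposite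

set_option linter.style.haveILetI false
set_option backward.isDefEq.respectTransparency false
set_option backward.isDefEq.respectTransparency.types false
set_option maxHeartbeats 800000

noncomputable section

namespace Groth.Agent.RelQuot

open Groth.Agent Groth.Agent.VeryAmpleX

variable {X S : Scheme.{u}} {f : X ⟶ S}

/-- A proper morphism with coordinates from a finite type module is projective. -/
theorem isProjective_of_immAt [IsProper f] {L : X.Modules} {E : S.Modules} (hE : Coh.IsQCoh E)
    (hft : CohB1.IsFT E) (σ : E ⟶ (Scheme.Modules.pushforward f).obj L) (h : ∀ x, Sig.ImmAt σ x) :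
    RelProj.IsProjective f := by
  obtain ⟨𝒯, j, P, p, chart, O1, lam, i, hT, hP, -, hi, hip, -⟩ := Sig.exists_immersion_of_immAt hE h
  haveI := hi
  haveI := isProper_grSymAlg hE hft hT hP
  haveI : IsProper i := by
    haveI : IsProper (i ≫ p) := by rw [hip]; infer_instance
    exact IsProper.of_comp i p
  haveI : IsClosedImmersion i := IsClosedImmersion.of_isPreimmersion i i.isClosedMap.isClosed_range
  rw [← hip]
  exact isProjective_of_isClosedImmersion (isGenDegOne_of_isGrSymAlg hE hT) (isFTDeg_grSymAlg hE hft hT) hP i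

/-- A projective morphism has coordinates from a finite type module. -/
theorem exists_immAt_of_isProjective (hf : RelProj.IsProjective f) :
    ∃ (L : X.Modules) (_ : PicF.IsInvertible L) (E : S.Modules) (_ : Coh.IsQCoh E) (_ : CohB1.IsFT E)
      (σ : E ⟶ (Scheme.Modules.pushforward f).obj L), ∀ x, Sig.ImmAt σ x := by
  obtain ⟨𝒮, P, p, chart, e, hgen, hft, hP, he⟩ := hf
  obtain ⟨𝒯, j, PT, pT, chartT, i, hT, hPT, hi, hip⟩ := exists_closedImmersion_bundle hgen hP
  haveI := hi
  have hO1 := RelTwistX.isRelTwist hPT (n := 1)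
  obtain ⟨σ₀, hσ₀⟩ := Sig.exists_twistMap (isQCoh_degOne 𝒮) hT hPT hO1
  have hinv := RelTildeX.isInvertible_twist (isGenDegOne_of_isGrSymAlg (isQCoh_degOne 𝒮) hT) hO1
  have hf' : (e.hom ≫ i) ≫ pT = f := by rw [Category.assoc, hip, he]
  subst hf'
  exact ⟨_, PicClLib.isInvertible_pullback (e.hom ≫ i) hinv, _, isQCoh_degOne 𝒮, isFT_degOne 𝒮 hft,
    Sig.pullMap σ₀ (e.hom ≫ i), fun x => Sig.ImmAt.pullback hinv (e.hom ≫ i)
      (Sig.immAt_twist (isQCoh_degOne 𝒮) hT hPT hO1 hσ₀ ((e.hom ≫ i) x))⟩

theorem isProjective_of_iso {X' : Scheme.{u}} (e : X' ≅ X) (hf : RelProj.IsProjective f) :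
    RelProj.IsProjective (e.hom ≫ f) := by
  obtain ⟨𝒮, P, p, chart, e', hgen, hft, hP, he⟩ := hf
  exact ⟨𝒮, P, p, chart, e ≪≫ e', hgen, hft, hP, by rw [Iso.trans_hom, Category.assoc, he]⟩

theorem isProjective_baseChange {X' S' : Scheme.{u}} {g₀ : S' ⟶ S} {g' : X' ⟶ X} {f' : X' ⟶ S'}
    (hsq : IsPullback g' f' f g₀) (hf : RelProj.IsProjective f) : RelProj.IsProjective f' := by
  haveI := ProjLoc.isProper_of_isProjective hf
  haveI : IsProper f' := MorphismProperty.of_isPullback hsq ‹_›
  obtain ⟨L, hL, E, hE, hft, σ, hσ⟩ := exists_immAt_of_isProjective hf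
  exact isProjective_of_immAt (QCoh.isQCoh_pullback g₀ hE) (FittX.isFT_pullback g₀ hE hft) (Sig.bcMap hsq.w σ)
    fun x => (hσ (g' x)).baseChange hsq hL

theorem isProjective_of_comp {Z : Scheme.{u}} {g : S ⟶ Z} [IsSeparated g] (h : RelProj.IsProjective (f ≫ g)) :
    RelProj.IsProjective f := by
  haveI := ProjLoc.isProper_of_isProjective h
  haveI : IsProper f := IsProper.of_comp f g
  obtain ⟨L, hL, E, hE, hft, σ, hσ⟩ := exists_immAt_of_isProjective h
  exact isProjective_of_immAt (QCoh.isQCoh_pullback g hE) (FittX.isFT_pullback g hE hft) (Sig.compMap σ)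
    fun x => (hσ x).of_comp

theorem isProjective_comp_closedImmersion {Z : Scheme.{u}} (i : Z ⟶ X) [IsClosedImmersion i]
    (hf : RelProj.IsProjective f) : RelProj.IsProjective (i ≫ f) := by
  obtain ⟨𝒮, P, p, chart, e, hgen, hft, hP, he⟩ := hf
  rw [← he, ← Category.assoc]
  exact isProjective_of_isClosedImmersion hgen hft hP (i ≫ e.hom)

/-- Over a quasi-compact quasi-separated base proper quasi-projective morphisms are projective. -/
theorem isProjective_of_isQuasiProjective [CompactSpace S] [QuasiSeparatedSpace S] [IsProper f]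
    (hq : RelProj.IsQuasiProjective f) : RelProj.IsProjective f := by
  obtain ⟨-, -, L, hA⟩ := hq
  obtain ⟨n₀, hn⟩ := eventually_isRelVeryAmple f (AmpleX.isInvertible_of_isRelAmple hA) hA
    (InvX.isInvertible_structureModule (X := X))
  obtain ⟨E, hE, σ, hft, hσ⟩ := Sig.exists_ft_map (hn n₀ le_rfl)
  exact isProjective_of_immAt hE hft σ hσ

theorem isProjective_comp [CompactSpace S] [QuasiSeparatedSpace S] {W : Scheme.{u}} {g : W ⟶ X}
    (hg : RelProj.IsProjective g) (hf : RelProj.IsProjective f) : RelProj.IsProjective (g ≫ f) := by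
  haveI := ProjLoc.isProper_of_isProjective hg
  haveI := ProjLoc.isProper_of_isProjective hf
  obtain ⟨-, -, L, hA⟩ := RelTwistX.isQuasiProjective_of_isProjective hg
  obtain ⟨-, -, K, hK⟩ := RelTwistX.isQuasiProjective_of_isProjective hf
  obtain ⟨n₀, -, hn⟩ := AmpleX.eventually_isRelAmple_comp g f hA hK
  exact isProjective_of_isQuasiProjective ⟨inferInstance, inferInstance, _, hn n₀ le_rfl⟩

end Groth.Agent.RelQuot
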