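import Mathlib.RingTheory.GradedAlgebra.Basic
import Mathlib.RingTheory.GradedAlgebra.Homogeneous.Ideal

/-!
# The grading on the image of a surjection with homogeneous kernel
-/

universe u

open DirectSum

noncomputable section

namespace Groth.Agent.RelQuot

variable {A B : Type u} [CommRing A] [CommRing B] (𝒜 : ℕ → AddSubgroup A) [GradedRing 𝒜] (e : A →+* B)

/-- The images of the homogeneous elements. -/
def imgDeg (d : ℕ) : AddSubgroup B := (𝒜 d).map e.toAddMonoidHom

theorem mem_imgDeg {d : ℕ} {b : B} : b ∈ imgDeg 𝒜 e d ↔ ∃ a ∈ 𝒜 d, e a = b := Iff.rfl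

theorem map_mem_imgDeg {d : ℕ} {a : A} (ha : a ∈ 𝒜 d) : e a ∈ imgDeg 𝒜 e d := ⟨a, ha, rfl⟩

instance imgDeg_gradedMonoid : SetLike.GradedMonoid (imgDeg 𝒜 e) where
  one_mem := ⟨1, SetLike.one_mem_graded 𝒜, map_one e⟩
  mul_mem := by
    rintro i j _ _ ⟨a, ha, rfl⟩ ⟨b, hb, rfl⟩
    exact ⟨a * b, SetLike.mul_mem_graded ha hb, map_mul e a b⟩

/-- The decomposition of the source followed by the map. -/
def imgDecAux : A →+ ⨁ d, imgDeg 𝒜 e d :=
  (DirectSum.toAddMonoid fun d => (DirectSum.of (fun d => imgDeg 𝒜 e d) d).comp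
    { toFun := fun a => ⟨e a.1, map_mem_imgDeg 𝒜 e a.2⟩
      map_zero' := Subtype.ext (map_zero e)
      map_add' := fun a b => Subtype.ext (map_add e _ _) }).comp
    (DirectSum.decomposeAddEquiv 𝒜).toAddMonoidHom

theorem imgDecAux_of_mem {d : ℕ} {a : A} (ha : a ∈ 𝒜 d) :
    imgDecAux 𝒜 e a = DirectSum.of (fun d => imgDeg 𝒜 e d) d ⟨e a, map_mem_imgDeg 𝒜 e ha⟩ := by
  simp only [imgDecAux, AddMonoidHom.comp_apply, AddEquiv.toAddMonoidHom_eq_coe, AddMonoidHom.coe_coe,
    DirectSum.decomposeAddEquiv_apply, DirectSum.decompose_of_mem _ ha, DirectSum.toAddMonoid_of]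
  rfl

theorem coe_imgDecAux (a : A) : DirectSum.coeAddMonoidHom (imgDeg 𝒜 e) (imgDecAux 𝒜 e a) = e a := by
  induction a using DirectSum.Decomposition.inductionOn 𝒜 with
  | zero => simp
  | @homogeneous d a => rw [imgDecAux_of_mem 𝒜 e a.2, DirectSum.coeAddMonoidHom_of]
  | add a b ha hb => rw [map_add, map_add, map_add, ha, hb]

theorem imgDecAux_eq_zero (hk : (RingHom.ker e).IsHomogeneous 𝒜) {a : A} (ha : e a = 0) :
    imgDecAux 𝒜 e a = 0 := by
  classical
  rw [← DirectSum.sum_support_decompose 𝒜 a, map_sum]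
  refine Finset.sum_eq_zero fun d _ => ?_
  rw [imgDecAux_of_mem 𝒜 e (SetLike.coe_mem _)]
  rw [show (⟨e _, map_mem_imgDeg 𝒜 e (SetLike.coe_mem (DirectSum.decompose 𝒜 a d))⟩ :
    imgDeg 𝒜 e d) = 0 from Subtype.ext (hk d ha), map_zero]

variable {𝒜 e}

/-- The images of the homogeneous elements form a grading. -/
abbrev imgGradedRing (he : Function.Surjective e) (hk : (RingHom.ker e).IsHomogeneous 𝒜) :
    GradedRing (imgDeg 𝒜 e) :=
  { imgDeg_gradedMonoid 𝒜 e with
    decompose' := fun b => imgDecAux 𝒜 e (Function.surjInv he b)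
    left_inv := fun b => (coe_imgDecAux 𝒜 e _).trans (Function.surjInv_eq he b)
    right_inv := fun x => by
      induction x using DirectSum.induction_on with
      | zero => exact imgDecAux_eq_zero 𝒜 e hk (by rw [Function.surjInv_eq he, map_zero])
      | of d b =>
        obtain ⟨a, ha, hab⟩ := (mem_imgDeg 𝒜 e).1 b.2
        have h0 : imgDecAux 𝒜 e (Function.surjInv he (DirectSum.coeAddMonoidHom (imgDeg 𝒜 e) (DirectSum.of _ d b)) - a) = 0 :=
          imgDecAux_eq_zero 𝒜 e hk (by rw [map_sub, Function.surjInv_eq he, DirectSum.coeAddMonoidHom_of, hab, sub_self])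
        rw [map_sub, sub_eq_zero] at h0
        beta_reduce
        rw [h0, imgDecAux_of_mem 𝒜 e ha]
        congr 1
        exact Subtype.ext hab
      | add x y hx hy =>
        beta_reduce at hx hy ⊢
        have h0 : imgDecAux 𝒜 e (Function.surjInv he (DirectSum.coeAddMonoidHom (imgDeg 𝒜 e) (x + y)) -
            (Function.surjInv he (DirectSum.coeAddMonoidHom (imgDeg 𝒜 e) x) +
              Function.surjInv he (DirectSum.coeAddMonoidHom (imgDeg 𝒜 e) y))) = 0 :=
          imgDecAux_eq_zero 𝒜 e hk (by simp only [map_sub, map_add, Function.surjInv_eq he, sub_self])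
        rw [map_sub, sub_eq_zero, map_add (imgDecAux 𝒜 e), hx, hy] at h0
        exact h0 }

end Groth.Agent.RelQuot
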