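import Groth.Agent.SymSh.OfAffine
import Groth.Agent.RelQuot.ImgGraded
import Groth.Prelude.Def_RelProj

/-!
# Quotients of quasi-coherent graded algebras
-/

universe u

open CategoryTheory CategoryTheory.Limits AlgebraicGeometry TopologicalSpace Opposite
open scoped HomogeneousIdeal

set_option linter.style.haveILetI false
set_option backward.isDefEq.respectTransparency false
set_option backward.isDefEq.respectTransparency.types false

noncomputable section

namespace Groth.Agent.RelQuot

open Groth.Agent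

theorem isLocalization_quotientMap {A B : Type u} [CommRing A] [CommRing B] (φ : A →+* B) (c : A)
    (hloc : @IsLocalization.Away A _ c B _ φ.toAlgebra) (I : Ideal A) (J : Ideal B) (hJ : J = I.map φ)
    (h : I ≤ J.comap φ) :
    @IsLocalization.Away (A ⧸ I) _ (Ideal.Quotient.mk I c) (B ⧸ J) _ (Ideal.quotientMap J φ h).toAlgebra := by
  letI := φ.toAlgebra
  haveI := hloc
  letI := (Ideal.quotientMap J φ h).toAlgebra
  refine { map_units := ?_, surj := ?_, exists_of_eq := ?_ }
  · rintro ⟨_, n, rfl⟩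
    show IsUnit (Ideal.quotientMap J φ h ((Ideal.Quotient.mk I c) ^ n))
    rw [← map_pow, Ideal.quotientMap_mk]
    exact (IsLocalization.map_units B (⟨c ^ n, n, rfl⟩ : Submonoid.powers c)).map _
  · intro z
    obtain ⟨z, rfl⟩ := Ideal.Quotient.mk_surjective z
    obtain ⟨⟨a, ⟨_, n, rfl⟩⟩, hza⟩ := IsLocalization.surj (Submonoid.powers c) z
    refine ⟨⟨Ideal.Quotient.mk I a, ⟨(Ideal.Quotient.mk I c) ^ n, n, rfl⟩⟩, ?_⟩
    show Ideal.Quotient.mk J z * Ideal.quotientMap J φ h ((Ideal.Quotient.mk I c) ^ n) =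
      Ideal.quotientMap J φ h (Ideal.Quotient.mk I a)
    rw [← map_pow, Ideal.quotientMap_mk, Ideal.quotientMap_mk, ← map_mul]
    exact congrArg _ hza
  · intro x y hxy
    obtain ⟨x, rfl⟩ := Ideal.Quotient.mk_surjective x
    obtain ⟨y, rfl⟩ := Ideal.Quotient.mk_surjective y
    have hxy' : φ (x - y) ∈ I.map (algebraMap A B) := by
      rw [map_sub]
      have : Ideal.quotientMap J φ h (Ideal.Quotient.mk I x) = Ideal.quotientMap J φ h (Ideal.Quotient.mk I y) := hxy
      rw [Ideal.quotientMap_mk, Ideal.quotientMap_mk, Ideal.Quotient.eq, hJ] at this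
      exact this
    obtain ⟨_, ⟨n, rfl⟩, hn⟩ := (IsLocalization.algebraMap_mem_map_algebraMap_iff (Submonoid.powers c) _ _ _).mp hxy'
    refine ⟨⟨(Ideal.Quotient.mk I c) ^ n, n, rfl⟩, ?_⟩
    show (Ideal.Quotient.mk I c) ^ n * Ideal.Quotient.mk I x = (Ideal.Quotient.mk I c) ^ n * Ideal.Quotient.mk I y
    rw [← map_pow, ← map_mul, ← map_mul, Ideal.Quotient.eq, ← mul_sub]
    exact hn

variable {S : Scheme.{u}} (𝒜 : RelProj.QCGrAlg S)

/-- Ideals over the affine opens commuting with restriction to basic opens. -/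
structure IdealData where
  /-- the ideal over an affine open -/
  J : ∀ (U : S.Opens), IsAffineOpen U → Ideal (𝒜.presheaf.obj (op U))
  hom : ∀ (U : S.Opens) (hU : IsAffineOpen U), (J U hU).IsHomogeneous (𝒜.deg U hU)
  loc : ∀ (U : S.Opens) (hU : IsAffineOpen U) (r : Γ(S, U)),
    J (S.basicOpen r) (hU.basicOpen r) = (J U hU).map (𝒜.presheaf.map (homOfLE (S.basicOpen_le r)).op).hom

variable {𝒜} (D : IdealData 𝒜)

theorem IdealData.le_comap {U V : S.AffineZariskiSite} (i : V ⟶ U) :
    D.J U.1 U.2 ≤ (D.J V.1 V.2).comap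
      (𝒜.presheaf.map (homOfLE (Scheme.AffineZariskiSite.toOpens_mono i.le)).op).hom := by
  obtain ⟨V, hV⟩ := V
  obtain ⟨r, hr⟩ := i.le
  change S.basicOpen r = V at hr
  subst hr
  rw [← Ideal.map_le_iff_le_comap, D.loc U.1 U.2 r]

/-- The quotients on affine opens. -/
def quotF : S.AffineZariskiSiteᵒᵖ ⥤ CommRingCat.{u} where
  obj U := CommRingCat.of (𝒜.presheaf.obj (op U.unop.1) ⧸ D.J U.unop.1 U.unop.2)
  map {U V} i := CommRingCat.ofHom (Ideal.quotientMap _ _ (D.le_comap i.unop))
  map_id U := by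
    refine CommRingCat.hom_ext (Ideal.Quotient.ringHom_ext (RingHom.ext fun x => ?_))
    exact congrArg (Ideal.Quotient.mk _) congr($(𝒜.presheaf.map_id (op U.unop.1)) x)
  map_comp {U V W} i j := by
    refine CommRingCat.hom_ext (Ideal.Quotient.ringHom_ext (RingHom.ext fun x => ?_))
    exact congrArg (Ideal.Quotient.mk _) congr($(𝒜.presheaf.map_comp
      (homOfLE (Scheme.AffineZariskiSite.toOpens_mono i.unop.le)).op
      (homOfLE (Scheme.AffineZariskiSite.toOpens_mono j.unop.le)).op) x)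

/-- The scalars. -/
def quotα : (Scheme.AffineZariskiSite.toOpensFunctor S).op ⋙ S.presheaf ⟶ quotF D where
  app U := 𝒜.str.app (op U.unop.1) ≫ CommRingCat.ofHom (Ideal.Quotient.mk _)
  naturality U V i := by
    refine CommRingCat.hom_ext (RingHom.ext fun x => ?_)
    exact congrArg (Ideal.Quotient.mk _) congr($(𝒜.str.naturality
      (homOfLE (Scheme.AffineZariskiSite.toOpens_mono i.unop.le)).op) x)

theorem coequifibered_quot : (quotα D).Coequifibered := by
  refine Scheme.AffineZariskiSite.coequifibered_iff_forall_isLocalizationAway.mpr fun U r => ?_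
  exact isLocalization_quotientMap _ _ (𝒜.isQC U.1 U.2 r) _ _ (D.loc U.1 U.2 r) (D.le_comap (homOfLE (U.basicOpen_le r)))

/-- The quotient algebra. -/
def quotQC : RelSpec.QCAlg S := SymSh.alg (coequifibered_quot D)

theorem exists_proj : ∃ φ : 𝒜.toQCAlg ⟶ quotQC D, ∀ U : S.AffineZariskiSite,
    Function.Surjective (φ.hom.app (op U.1)).hom ∧ RingHom.ker (φ.hom.app (op U.1)).hom = D.J U.1 U.2 := by
  let e := SymSh.eta (coequifibered_quot D)
  obtain ⟨φ, hφ⟩ := SymSh.exists_hom (A := 𝒜.toQCAlg) (B := quotQC D)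
    (fun U => CommRingCat.ofHom (Ideal.Quotient.mk (D.J U.1 U.2)) ≫ e.inv.app (op U))
    (fun {U V} i => by
      simp only [Category.assoc]
      erw [← e.inv.naturality i.op]
      rw [← Category.assoc, ← Category.assoc]
      rfl)
    (fun U => by
      have h := congr_app (SymSh.str_eta (coequifibered_quot D)) (op U)
      change (quotQC D).str.app (op U.1) ≫ e.hom.app (op U) = (quotα D).app (op U) at h
      rw [← cancel_mono (e.hom.app (op U)), h]
      simp only [Category.assoc, Iso.inv_hom_id_app]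
      erw [Category.comp_id]
      rfl)
  refine ⟨φ, fun U => ?_⟩
  rw [hφ U]
  have hb := ConcreteCategory.bijective_of_isIso (e.inv.app (op U))
  refine ⟨?_, ?_⟩
  · rw [CommRingCat.hom_comp, RingHom.coe_comp]
    exact hb.2.comp Ideal.Quotient.mk_surjective
  · rw [CommRingCat.hom_comp, RingHom.ker_comp_of_injective _ hb.1]
    exact Ideal.mk_ker

/-- The projection. -/
def projHom : 𝒜.toQCAlg ⟶ quotQC D := (exists_proj D).choose

theorem surjective_projHom (U : S.Opens) (hU : IsAffineOpen U) :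
    Function.Surjective ((projHom D).hom.app (op U)).hom :=
  ((exists_proj D).choose_spec ⟨U, hU⟩).1

theorem ker_projHom (U : S.Opens) (hU : IsAffineOpen U) :
    RingHom.ker ((projHom D).hom.app (op U)).hom = D.J U hU :=
  ((exists_proj D).choose_spec ⟨U, hU⟩).2

/-- The quotient graded algebra. -/
def quotAlg : RelProj.QCGrAlg S where
  toQCAlg := quotQC D
  deg U hU d := imgDeg (𝒜.deg U hU) ((projHom D).hom.app (op U)).hom d
  graded U hU := imgGradedRing (surjective_projHom D U hU) (by rw [ker_projHom D U hU]; exact D.hom U hU)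
  map_mem := fun {U V} hU hV e {d x} hx => by
    obtain ⟨a, ha, rfl⟩ := (mem_imgDeg _ _).1 hx
    exact ⟨_, 𝒜.map_mem hU hV e ha, congr($((projHom D).hom.naturality (homOfLE e).op) a)⟩
  str_mem U hU r := ⟨_, 𝒜.str_mem U hU r, congr($(congr_app (projHom D).comm (op U)) r)⟩

theorem isGradedHom_projHom : RelProj.IsGradedHom (𝒜 := 𝒜) (ℬ := quotAlg D) (projHom D) :=
  fun U hU _ _ hx => map_mem_imgDeg (𝒜.deg U hU) _ hx

theorem irrelevant_le_projHom (U : S.Opens) (hU : IsAffineOpen U) :
    ((quotAlg D).deg U hU)₊ ≤ ((𝒜.deg U hU)₊).map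
      (RelProj.gradedHomAt (𝒜 := 𝒜) (ℬ := quotAlg D) (projHom D) (isGradedHom_projHom D) U hU) := by
  rw [HomogeneousIdeal.irrelevant_le]
  rintro n hn _ ⟨a, ha, rfl⟩
  exact Ideal.mem_map_of_mem _ (HomogeneousIdeal.mem_irrelevant_of_mem _ hn ha)

theorem isGenDegOne_quotAlg (h : 𝒜.IsGenDegOne) : (quotAlg D).IsGenDegOne := fun U hU => by
  have := congrArg (Subring.map ((projHom D).hom.app (op U)).hom) (h U hU)
  rw [RingHom.map_closure, Set.image_union, ← RingHom.range_eq_map,
    RingHom.range_eq_top.2 (surjective_projHom D U hU)] at this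
  exact this

theorem isFTDeg_quotAlg {d : ℕ} (h : 𝒜.IsFTDeg d) : (quotAlg D).IsFTDeg d := fun U hU => by
  classical
  obtain ⟨T, hT, hspan⟩ := h U hU
  let q := ((projHom D).hom.app (op U)).hom
  refine ⟨T.image q, ?_, fun x hx => ?_⟩
  · intro y hy
    obtain ⟨t, ht, rfl⟩ := Finset.mem_image.1 (Finset.mem_coe.1 hy)
    exact map_mem_imgDeg (𝒜.deg U hU) q (hT ht)
  · obtain ⟨a, ha, rfl⟩ := (mem_imgDeg _ _).1 hx
    obtain ⟨c, rfl⟩ := hspan a ha
    refine ⟨fun y => ∑ t ∈ T.filter (fun t => q t = y), c t, ?_⟩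
    show q _ = _
    rw [map_sum]
    refine (Finset.sum_fiberwise_of_maps_to (g := q) (t := T.image q)
      (fun t ht => Finset.mem_image_of_mem _ ht) _).symm.trans (Finset.sum_congr rfl fun y _ => ?_)
    rw [map_sum, Finset.sum_mul]
    refine Finset.sum_congr rfl fun t ht => ?_
    rw [map_mul, (Finset.mem_filter.1 ht).2]
    exact congrArg (· * y) congr($(congr_app (projHom D).comm (op U)) (c t))

end Groth.Agent.RelQuot
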