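import Groth.Agent.RelQuot.GrIdeal
import Mathlib.RingTheory.Localization.Ideal

/-!
# The ideal of a family of chart ideals commutes with localization
-/

universe u

open DirectSum SetLike HomogeneousLocalization

noncomputable section

namespace Groth.Agent.RelQuot

namespace ChartIdeals

variable {A B : Type u} [CommRing A] [CommRing B] {𝒜 : ℕ → AddSubgroup A} [GradedRing 𝒜]
  {ℬ : ℕ → AddSubgroup B} [GradedRing ℬ] {F : ChartIdeals 𝒜} {F' : ChartIdeals ℬ} (φ : 𝒜 →+*ᵍ ℬ)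
  (hmap : ∀ (d : ℕ) (hd : 0 < d) (g : A) (hg : g ∈ 𝒜 d),
    F'.I d hd (φ g) (φ.map_mem hg) = (F.I d hd g hg).map (Away.map φ g))

include hmap in
theorem map_numIdeal_le {d : ℕ} (hd : 0 < d) {g : A} (hg : g ∈ 𝒜 d) :
    (F.numIdeal hd hg).map (φ : A →+* B) ≤ F'.numIdeal hd (φ.map_mem hg) := by
  rw [numIdeal, Ideal.map_span, Ideal.span_le]
  rintro _ ⟨a, ⟨k, ha, hI⟩, rfl⟩
  refine Ideal.subset_span ⟨k, φ.map_mem ha, ?_⟩
  suffices h : Away.mk ℬ (φ.map_mem hg) k (φ a) (φ.map_mem ha) ∈ (F.I d hd g hg).map (Away.map φ g) by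
    rw [← hmap d hd g hg] at h
    exact h
  have := Ideal.mem_map_of_mem (Away.map φ g) hI
  rw [Away.map_mk] at this
  exact this

include hmap in
theorem exists_pow_mul_mem_map {d : ℕ} (hd : 0 < d) {g : A} (hg : g ∈ 𝒜 d) {x : B}
    (hx : x ∈ F'.numIdeal hd (φ.map_mem hg)) :
    ∃ M : ℕ, φ g ^ M * x ∈ (F.numIdeal hd hg).map (φ : A →+* B) := by
  induction hx using Submodule.span_induction with
  | mem a ha =>
    obtain ⟨k, hak, hI⟩ := ha
    replace hI : Away.mk ℬ (φ.map_mem hg) k a hak ∈ (F.I d hd g hg).map (Away.map φ g) := by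
      rw [← hmap d hd g hg]; exact hI
    refine exists_pow_mul_mem_of_mem_map ℬ _ (Away.map φ g) (fun z hz => ?_) hak hI
    obtain ⟨l, b, hb, rfl⟩ := Away.mk_surjective 𝒜 hg z
    exact ⟨l, φ b, φ.map_mem hb, Ideal.mem_map_of_mem _ (Ideal.subset_span ⟨l, hb, hz⟩), Away.map_mk φ g hg l b hb⟩
  | zero => exact ⟨0, by rw [mul_zero]; exact zero_mem _⟩
  | add p q _ _ hp hq =>
    obtain ⟨N, hN⟩ := hp
    obtain ⟨M, hM⟩ := hq
    refine ⟨N + M, ?_⟩
    rw [show φ g ^ (N + M) * (p + q) = φ g ^ M * (φ g ^ N * p) + φ g ^ N * (φ g ^ M * q) by ring]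
    exact add_mem (Ideal.mul_mem_left _ _ hN) (Ideal.mul_mem_left _ _ hM)
  | smul c p _ hp =>
    obtain ⟨N, hN⟩ := hp
    exact ⟨N, by rw [smul_eq_mul, mul_left_comm]; exact Ideal.mul_mem_left _ _ hN⟩

variable {ι : Type*} [Finite ι] {deg : ι → ℕ} (hdeg : ∀ i, 0 < deg i) {gen : ι → A} (hgen : ∀ i, gen i ∈ 𝒜 (deg i))
  (hcov : (HomogeneousIdeal.irrelevant 𝒜).toIdeal ≤ (Ideal.span (Set.range gen)).radical)
  (hcov' : (HomogeneousIdeal.irrelevant ℬ).toIdeal ≤ (Ideal.span (Set.range fun i => φ (gen i))).radical)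

include hmap hdeg hgen hcov' in
theorem map_toIdeal_le : F.toIdeal.map (φ : A →+* B) ≤ F'.toIdeal := by
  rw [Ideal.map_le_iff_le_comap]
  intro x hx
  refine F'.mem_toIdeal_of_cover hdeg (fun i => φ.map_mem (hgen i)) hcov' fun i => ?_
  obtain ⟨N, hN⟩ := hx (deg i) (hdeg i) (gen i) (hgen i)
  refine ⟨N, map_numIdeal_le φ hmap (hdeg i) (hgen i) ?_⟩
  show (φ : A →+* B) (gen i) ^ N * (φ : A →+* B) x ∈ _
  rw [← map_pow, ← map_mul]
  exact Ideal.mem_map_of_mem _ hN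

include hmap hdeg hgen hcov hcov' in
theorem toIdeal_eq_map (c : A) (hloc : @IsLocalization.Away A _ c B _ (φ : A →+* B).toAlgebra) :
    F'.toIdeal = F.toIdeal.map (φ : A →+* B) := by
  refine le_antisymm (fun y hy => ?_) (map_toIdeal_le φ hmap hdeg hgen hcov')
  letI := (φ : A →+* B).toAlgebra
  haveI := hloc
  obtain ⟨⟨x, ⟨_, n, rfl⟩⟩, hyx⟩ := IsLocalization.surj (Submonoid.powers c) y
  have hu := IsLocalization.map_units B (⟨c ^ n, n, rfl⟩ : Submonoid.powers c)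
  suffices h : algebraMap A B x ∈ F.toIdeal.map (algebraMap A B) by
    rw [← hyx] at h
    exact (Ideal.mul_unit_mem_iff_mem _ hu).1 h
  have hxF : algebraMap A B x ∈ F'.toIdeal := by rw [← hyx]; exact Ideal.mul_mem_right _ _ hy
  have h1 : ∀ i, ∃ m N : ℕ, c ^ m * (gen i ^ N * x) ∈ F.numIdeal (hdeg i) (hgen i) := fun i => by
    obtain ⟨N, hN⟩ := hxF (deg i) (hdeg i) (φ (gen i)) (φ.map_mem (hgen i))
    obtain ⟨M, hM⟩ := exists_pow_mul_mem_map φ hmap (hdeg i) (hgen i) hN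
    have hmem : algebraMap A B (gen i ^ (M + N) * x) ∈ (F.numIdeal (hdeg i) (hgen i)).map (algebraMap A B) := by
      rw [map_mul, map_pow, pow_add, mul_assoc]
      exact hM
    obtain ⟨_, ⟨m, rfl⟩, hm⟩ := (IsLocalization.algebraMap_mem_map_algebraMap_iff (Submonoid.powers c) _ _ _).mp hmem
    exact ⟨m, M + N, hm⟩
  choose m N hmN using h1
  obtain ⟨m₀, hm₀⟩ := Finite.exists_le m
  have h2 : c ^ m₀ * x ∈ F.toIdeal := F.mem_toIdeal_of_cover hdeg hgen hcov fun i => ⟨N i, by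
    obtain ⟨r, hr⟩ := Nat.exists_eq_add_of_le (hm₀ i)
    rw [hr, show gen i ^ N i * (c ^ (m i + r) * x) = c ^ r * (c ^ m i * (gen i ^ N i * x)) by ring]
    exact Ideal.mul_mem_left _ _ (hmN i)⟩
  exact (IsLocalization.algebraMap_mem_map_algebraMap_iff (Submonoid.powers c) _ _ _).mpr ⟨_, ⟨m₀, rfl⟩, h2⟩

end ChartIdeals

end Groth.Agent.RelQuot
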