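import Groth.Agent.RelQuot.Alg
import Groth.Agent.RelQuot.GrIdealLoc
import Groth.Agent.Proj16.ClosedSub
import Groth.Agent.Proj16.RelMap
import Groth.Agent.RelTwistX.Exists
import Groth.Agent.RelTildeX.Chart
import Groth.Prelude.Def_RelProj4

/-!
# A closed subscheme of a relative `Proj` is the relative `Proj` of a graded quotient
-/

universe u

open CategoryTheory CategoryTheory.Limits AlgebraicGeometry TopologicalSpace Opposite HomogeneousLocalization
open scoped HomogeneousIdeal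

set_option linter.style.haveILetI false
set_option backward.isDefEq.respectTransparency false
set_option backward.isDefEq.respectTransparency.types false
set_option maxHeartbeats 1000000

noncomputable section

namespace Groth.Agent.RelQuot

open Groth.Agent

section radical

variable {A : Type u} [CommRing A] {𝒜 : ℕ → AddSubgroup A} [GradedRing 𝒜]

theorem irrelevant_le_radical {ι : Type*} (gen : ι → A) (hh : ∀ i, SetLike.IsHomogeneousElem 𝒜 (gen i))
    (hcov : ⨆ i, Proj.basicOpen 𝒜 (gen i) = ⊤) :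
    (HomogeneousIdeal.irrelevant 𝒜).toIdeal ≤ (Ideal.span (Set.range gen)).radical := by
  have hI : (Ideal.span (Set.range gen)).IsHomogeneous 𝒜 :=
    Ideal.homogeneous_span _ _ (by rintro _ ⟨i, rfl⟩; exact hh i)
  rw [hI.radical_eq]
  refine le_sInf fun J hJ => ?_
  obtain ⟨hJh, hJI, hJp⟩ := hJ
  by_contra hle
  let z : Proj 𝒜 := ⟨⟨J, hJh⟩, hJp, hle⟩
  obtain ⟨i, hi⟩ := Opens.mem_iSup.1 (hcov.ge (trivial : z ∈ (⊤ : (Proj 𝒜).Opens)))
  exact (ProjectiveSpectrum.mem_basicOpen 𝒜 (gen i) z).1 hi (show gen i ∈ J from hJI (Ideal.subset_span ⟨i, rfl⟩))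

theorem exists_finite_cover [CompactSpace (Proj 𝒜)] :
    ∃ (n : ℕ) (deg : Fin n → ℕ) (gen : Fin n → A), (∀ i, 0 < deg i) ∧ (∀ i, gen i ∈ 𝒜 (deg i)) ∧
      ⨆ i, Proj.basicOpen 𝒜 (gen i) = ⊤ := by
  have htop : ⨆ s : {s : ℕ × A // 0 < s.1 ∧ s.2 ∈ 𝒜 s.1}, Proj.basicOpen 𝒜 s.1.2 = ⊤ := by
    refine Proj.iSup_basicOpen_eq_top 𝒜 (fun s : {s : ℕ × A // 0 < s.1 ∧ s.2 ∈ 𝒜 s.1} => s.1.2) ?_
    refine (HomogeneousIdeal.toIdeal_irrelevant_le _).2 fun n hn x hx => Ideal.subset_span ⟨⟨⟨n, x⟩, hn, hx⟩, rfl⟩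
  obtain ⟨t, ht⟩ := isCompact_univ.elim_finite_subcover
    (fun s : {s : ℕ × A // 0 < s.1 ∧ s.2 ∈ 𝒜 s.1} => (Proj.basicOpen 𝒜 s.1.2 : Set (Proj 𝒜)))
    (fun s => (Proj.basicOpen 𝒜 s.1.2).2)
    (fun z _ => Set.mem_iUnion.2 (Opens.mem_iSup.1 (htop.ge (trivial : z ∈ (⊤ : (Proj 𝒜).Opens)))))
  let e := t.equivFin.symm
  refine ⟨t.card, fun i => (e i).1.1.1, fun i => (e i).1.1.2, fun i => (e i).1.2.1, fun i => (e i).1.2.2,
    top_unique fun z _ => ?_⟩
  obtain ⟨s, hs, hz⟩ := Set.mem_iUnion₂.1 (ht (Set.mem_univ z))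
  exact Opens.mem_iSup.2 ⟨t.equivFin ⟨s, hs⟩, by simp only [e, Equiv.symm_apply_apply]; exact hz⟩

end radical

variable {S P Z : Scheme.{u}} {𝒜 : RelProj.QCGrAlg S} {p : P ⟶ S}
  {chart : ∀ (U : S.Opens) (hU : IsAffineOpen U), (((p ⁻¹ᵁ U : P.Opens) : Scheme.{u}) ≅ Proj (𝒜.deg U hU))}

variable (chart) in
/-- A standard chart of the relative `Proj`. -/
def stdChart (U : S.Opens) (hU : IsAffineOpen U) {d : ℕ} (hd : 0 < d) (g : 𝒜.presheaf.obj (op U))
    (hg : g ∈ 𝒜.deg U hU d) : Spec (.of (Away (𝒜.deg U hU) g)) ⟶ P :=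
  Proj.awayι (𝒜.deg U hU) g hg hd ≫ RelProj.emb p chart U hU

instance (U : S.Opens) (hU : IsAffineOpen U) {d : ℕ} (hd : 0 < d) (g : 𝒜.presheaf.obj (op U))
    (hg : g ∈ 𝒜.deg U hU d) : IsOpenImmersion (stdChart chart U hU hd g hg) :=
  inferInstanceAs (IsOpenImmersion (Proj.awayι (𝒜.deg U hU) g hg hd ≫ RelProj.emb p chart U hU))

theorem SpecMap_awayMap_stdChart {U : S.Opens} (hU : IsAffineOpen U) {d e : ℕ} (hd : 0 < d)
    {g g' x : 𝒜.presheaf.obj (op U)} (hg : g ∈ 𝒜.deg U hU d) (hg' : g' ∈ 𝒜.deg U hU e) (hx : x = g * g')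
    {k : ℕ} (hk : k = d + e) (hk0 : 0 < k) (hxk : x ∈ 𝒜.deg U hU k) :
    Spec.map (CommRingCat.ofHom (awayMap (𝒜.deg U hU) hg' hx)) ≫ stdChart chart U hU hd g hg =
      stdChart chart U hU hk0 x hxk := by
  subst hk
  simp only [stdChart, ← Category.assoc, Proj.SpecMap_awayMap_awayι]

/-- The chart ideals of a closed subscheme. -/
def chartIdeals (chart : ∀ (U : S.Opens) (hU : IsAffineOpen U), (((p ⁻¹ᵁ U : P.Opens) : Scheme.{u}) ≅ Proj (𝒜.deg U hU)))
    (K : P.IdealSheafData) (U : S.Opens) (hU : IsAffineOpen U) : ChartIdeals (𝒜.deg U hU) where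
  I d hd g hg := Proj16.chartIdeal K (stdChart chart U hU hd g hg)
  compat := fun {d e} hd he {g g'} hg hg' => by
    rw [← CommRingCat.hom_ofHom (awayMap (𝒜.deg U hU) hg' rfl), ← Proj16.chartIdeal_comp,
      ← CommRingCat.hom_ofHom (awayMap (𝒜.deg U hU) hg (mul_comm g g')), ← Proj16.chartIdeal_comp,
      SpecMap_awayMap_stdChart hU hd hg hg' rfl rfl (Nat.add_pos_left hd e) (SetLike.mul_mem_graded hg hg'),
      SpecMap_awayMap_stdChart hU he hg' hg (mul_comm g g') (add_comm d e) (Nat.add_pos_left hd e)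
        (SetLike.mul_mem_graded hg hg')]

variable (hP : RelProj.IsRelProj 𝒜 p chart)

include hP in
theorem SpecMap_res_stdChart {U D : S.Opens} (g : RelTwistX.Good U D) (hU : IsAffineOpen U) (hD : IsAffineOpen D)
    {d : ℕ} (hd : 0 < d) (f : 𝒜.presheaf.obj (op U)) (hf : f ∈ 𝒜.deg U hU d) :
    Spec.map (CommRingCat.ofHom (Away.map (𝒜.res hU hD g.le) f)) ≫ stdChart chart U hU hd f hf =
      stdChart chart D hD hd (𝒜.res hU hD g.le f) ((𝒜.res hU hD g.le).map_mem hf) := by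
  rw [stdChart, stdChart, ← Category.assoc, ← Proj.awayι_comp_map (𝒜.res hU hD g.le) (g.irr hU hD) hd f hf,
    Category.assoc, g.map_emb hP hU hD]

include chart in
theorem compactSpace_proj [QuasiCompact p] (U : S.Opens) (hU : IsAffineOpen U) : CompactSpace (Proj (𝒜.deg U hU)) := by
  haveI : CompactSpace ((p ⁻¹ᵁ U : P.Opens) : Scheme.{u}) :=
    isCompact_iff_compactSpace.1 (p.isCompact_preimage hU.isCompact)
  exact (Scheme.Hom.homeomorph (chart U hU).hom).compactSpace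

include hP in
theorem chartIdeals_res (K : P.IdealSheafData) {U D : S.Opens} (g : RelTwistX.Good U D) (hU : IsAffineOpen U)
    (hD : IsAffineOpen D) {d : ℕ} (hd : 0 < d) (f : 𝒜.presheaf.obj (op U)) (hf : f ∈ 𝒜.deg U hU d) :
    (chartIdeals chart K D hD).I d hd (𝒜.res hU hD g.le f) ((𝒜.res hU hD g.le).map_mem hf) =
      ((chartIdeals chart K U hU).I d hd f hf).map (Away.map (𝒜.res hU hD g.le) f) := by
  show Proj16.chartIdeal K (stdChart chart D hD hd (𝒜.res hU hD g.le f) ((𝒜.res hU hD g.le).map_mem hf)) =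
    (Proj16.chartIdeal K (stdChart chart U hU hd f hf)).map (CommRingCat.ofHom (Away.map (𝒜.res hU hD g.le) f)).hom
  rw [← Proj16.chartIdeal_comp, SpecMap_res_stdChart hP g hU hD hd f hf]

include hP in
/-- The graded ideals of a closed subscheme over the affine opens. -/
def idealData [QuasiCompact p] (K : P.IdealSheafData) : IdealData 𝒜 where
  J U hU := (chartIdeals chart K U hU).toIdeal
  hom U hU := ChartIdeals.toIdeal_isHomogeneous _
  loc U hU r := by
    haveI := compactSpace_proj (chart := chart) U hU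
    obtain ⟨n, deg, gen, hdeg, hgen, hcov⟩ := exists_finite_cover (𝒜 := 𝒜.deg U hU)
    have hle := S.basicOpen_le r
    have hcov' : ⨆ i, Proj.basicOpen (𝒜.deg _ (hU.basicOpen r)) (𝒜.res hU (hU.basicOpen r) hle (gen i)) = ⊤ := by
      have h := congrArg (Proj.map (𝒜.res hU (hU.basicOpen r) hle) (𝒜.irrelevant_le_map U hU r) ⁻¹ᵁ ·) hcov
      simpa only [Scheme.Hom.preimage_iSup, Proj.map_preimage_basicOpen, Scheme.Hom.preimage_top] using h
    exact ChartIdeals.toIdeal_eq_map (F := chartIdeals chart K U hU)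
      (F' := chartIdeals chart K _ (hU.basicOpen r)) (𝒜.res hU (hU.basicOpen r) hle)
      (fun d hd f hf => chartIdeals_res hP K (⟨r, rfl⟩ : RelTwistX.Good U (S.basicOpen r)) hU (hU.basicOpen r) hd f hf)
      hdeg hgen (irrelevant_le_radical gen (fun i => ⟨_, hgen i⟩) hcov)
      (irrelevant_le_radical _ (fun i => ⟨_, (𝒜.res hU (hU.basicOpen r) hle).map_mem (hgen i)⟩) hcov')
      _ (𝒜.isQC U hU r)

theorem chart_ker_eq (K : P.IdealSheafData) [QuasiCompact p] (D : IdealData 𝒜) (hD : ∀ U hU, D.J U hU = (chartIdeals chart K U hU).toIdeal)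
    (U : S.Opens) (hU : IsAffineOpen U) {d : ℕ} (hd : 0 < d) (g : 𝒜.presheaf.obj (op U)) (hg : g ∈ 𝒜.deg U hU d) :
    RingHom.ker (Away.map (RelProj.gradedHomAt (𝒜 := 𝒜) (ℬ := quotAlg D) (projHom D) (isGradedHom_projHom D) U hU) g) =
      (chartIdeals chart K U hU).I d hd g hg := by
  generalize hψ : RelProj.gradedHomAt (𝒜 := 𝒜) (ℬ := quotAlg D) (projHom D) (isGradedHom_projHom D) U hU = ψ
  have hJ : ∀ y, ψ y = 0 ↔ y ∈ (chartIdeals chart K U hU).toIdeal := fun y => by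
    rw [← hD U hU, ← ker_projHom D U hU, RingHom.mem_ker, ← hψ]
    rfl
  ext x
  obtain ⟨k, a, ha, rfl⟩ := x.mk_surjective (𝒜.deg U hU) hg
  rw [RingHom.mem_ker, Away.map_mk, ← (HomogeneousLocalization.val_injective _).eq_iff,
    Away.val_mk, HomogeneousLocalization.val_zero, Localization.mk_eq_mk', IsLocalization.mk'_eq_zero_iff]
  constructor
  · rintro ⟨⟨_, N, rfl⟩, hN⟩
    refine (chartIdeals chart K U hU).mk_mem_of_mem_toIdeal hd hg ha (N := N) ((hJ _).1 ?_)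
    rw [map_mul, map_pow]
    exact hN
  · intro hI
    haveI := compactSpace_proj (chart := chart) U hU
    obtain ⟨n, deg, gen, hdeg, hgen, hcov⟩ := exists_finite_cover (𝒜 := 𝒜.deg U hU)
    obtain ⟨N, hN⟩ := (chartIdeals chart K U hU).exists_pow_mul_mem_toIdeal hdeg hgen
      (irrelevant_le_radical gen (fun j => ⟨_, hgen j⟩) hcov) hd hg ⟨k, ha, hI⟩
    refine ⟨⟨ψ g ^ N, N, rfl⟩, ?_⟩
    show ψ g ^ N * ψ a = 0
    rw [← map_pow, ← map_mul]
    exact (hJ _).2 hN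

include hP in
/-- The standard charts cover. -/
theorem exists_mem_stdChart [QuasiCompact p] (y : P) :
    ∃ (U : S.Opens) (hU : IsAffineOpen U) (d : ℕ) (hd : 0 < d) (g : 𝒜.presheaf.obj (op U)) (hg : g ∈ 𝒜.deg U hU d)
      (z : Spec (.of (Away (𝒜.deg U hU) g))), stdChart chart U hU hd g hg z = y := by
  obtain ⟨U, hU, hyU, -⟩ := exists_isAffineOpen_mem_and_subset (X := S) (x := p y) (U := ⊤) trivial
  obtain ⟨w, hw⟩ : y ∈ (RelProj.emb p chart U hU).opensRange := by rw [RelTildeX.opensRange_emb]; exact hyU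
  haveI := compactSpace_proj (chart := chart) U hU
  obtain ⟨n, deg, gen, hdeg, hgen, hc⟩ := exists_finite_cover (𝒜 := 𝒜.deg U hU)
  obtain ⟨j, hj⟩ := Opens.mem_iSup.1 (hc.ge (trivial : w ∈ (⊤ : (Proj (𝒜.deg U hU)).Opens)))
  rw [← Proj.opensRange_awayι (𝒜.deg U hU) (gen j) (hgen j) (hdeg j)] at hj
  obtain ⟨z, hz⟩ := hj
  exact ⟨U, hU, deg j, hdeg j, gen j, hgen j, z, by rw [stdChart, Scheme.Hom.comp_apply, hz, hw]⟩

section map

variable {ℬ : RelProj.QCGrAlg S} {φ : 𝒜.toQCAlg ⟶ ℬ.toQCAlg} {hφ : RelProj.IsGradedHom φ}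
  {hirr : ∀ (U : S.Opens) (hU : IsAffineOpen U),
      (ℬ.deg U hU)₊ ≤ ((𝒜.deg U hU)₊).map (RelProj.gradedHomAt φ hφ U hU)}
  {PB : Scheme.{u}} {pB : PB ⟶ S}
  {chartB : ∀ (U : S.Opens) (hU : IsAffineOpen U), (((pB ⁻¹ᵁ U : PB.Opens) : Scheme.{u}) ≅ Proj (ℬ.deg U hU))}
  (hB : RelProj.IsRelProj ℬ pB chartB) {h : PB ⟶ P} (hh : RelProj.IsRelProjMap φ hφ hirr chart chartB h)

include hh in
theorem emb_relProjMap (U : S.Opens) (hU : IsAffineOpen U) :
    RelProj.emb pB chartB U hU ≫ h = Proj.map (RelProj.gradedHomAt φ hφ U hU) (hirr U hU) ≫ RelProj.emb p chart U hU := by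
  rw [RelProj.emb, Category.assoc, hh U hU, Iso.inv_hom_id_assoc]
  rfl

include hP hB hh in
theorem isPullback_stdChart (U : S.Opens) (hU : IsAffineOpen U) {d : ℕ} (hd : 0 < d)
    (g : 𝒜.presheaf.obj (op U)) (hg : g ∈ 𝒜.deg U hU d) :
    IsPullback (Spec.map (CommRingCat.ofHom (Away.map (RelProj.gradedHomAt φ hφ U hU) g)))
      (stdChart chartB U hU hd (RelProj.gradedHomAt φ hφ U hU g) ((RelProj.gradedHomAt φ hφ U hU).map_mem hg))
      (stdChart chart U hU hd g hg) h := by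
  refine IsPullback.paste_vert ?_ (IsOpenImmersion.isPullback _ _ _ _ (emb_relProjMap hh U hU) ?_)
  · refine IsOpenImmersion.isPullback _ _ _ _
      (Proj.awayι_comp_map (RelProj.gradedHomAt φ hφ U hU) (hirr U hU) hd g hg) ?_
    rw [Proj.opensRange_awayι, Proj.opensRange_awayι, Proj.map_preimage_basicOpen]
  · rw [RelTildeX.opensRange_emb, RelTildeX.opensRange_emb, ← Scheme.Hom.comp_preimage,
      Proj16.relProjMap_comp hP hB hh]

include hP hB hh in
theorem ker_eq_of_charts [QuasiCompact p] [IsClosedImmersion h] (K : P.IdealSheafData)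
    (hk : ∀ (U : S.Opens) (hU : IsAffineOpen U) (d : ℕ) (hd : 0 < d) (g : 𝒜.presheaf.obj (op U))
      (hg : g ∈ 𝒜.deg U hU d),
      RingHom.ker (Away.map (RelProj.gradedHomAt φ hφ U hU) g) = (chartIdeals chart K U hU).I d hd g hg) :
    h.ker = K := by
  have hcomap : ∀ s : (Σ' (U : S.Opens) (hU : IsAffineOpen U) (d : ℕ) (_ : 0 < d) (g : 𝒜.presheaf.obj (op U)),
      g ∈ 𝒜.deg U hU d), h.ker.comap (stdChart chart s.1 s.2.1 s.2.2.2.1 s.2.2.2.2.1 s.2.2.2.2.2) =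
        K.comap (stdChart chart s.1 s.2.1 s.2.2.2.1 s.2.2.2.2.1 s.2.2.2.2.2) := by
    rintro ⟨U, hU, d, hd, g, hg⟩
    refine Proj16.comap_eq_of_chartIdeal _ ?_
    rw [Proj16.chartIdeal_eq_ker _ _ (isPullback_stdChart hP hB hh U hU hd g hg)]
    exact hk U hU d hd g hg
  have hcov : ∀ y : P, ∃ (s : Σ' (U : S.Opens) (hU : IsAffineOpen U) (d : ℕ) (_ : 0 < d)
      (g : 𝒜.presheaf.obj (op U)), g ∈ 𝒜.deg U hU d) (z : Spec (.of (Away (𝒜.deg s.1 s.2.1) s.2.2.2.2.1))),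
      stdChart chart s.1 s.2.1 s.2.2.2.1 s.2.2.2.2.1 s.2.2.2.2.2 z = y := fun y => by
    obtain ⟨U, hU, d, hd, g, hg, z, hz⟩ := exists_mem_stdChart hP y
    exact ⟨⟨U, hU, d, hd, g, hg⟩, z, hz⟩
  exact le_antisymm (ModPairLib.le_of_comap_le _ hcov fun s => (hcomap s).le)
    (ModPairLib.le_of_comap_le _ hcov fun s => (hcomap s).ge)

end map

variable (i : Z ⟶ P) [IsClosedImmersion i] [QuasiCompact p]

include hP in
theorem exists_quotient_iso' (D : IdealData 𝒜) (hD : ∀ U hU, D.J U hU = (chartIdeals chart i.ker U hU).toIdeal) :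
    ∃ (PB : Scheme.{u}) (pB : PB ⟶ S) (chartB : ∀ (U : S.Opens) (hU : IsAffineOpen U),
        (((pB ⁻¹ᵁ U : PB.Opens) : Scheme.{u}) ≅ Proj ((quotAlg D).deg U hU))) (h : PB ⟶ P) (e : PB ≅ Z),
      RelProj.IsRelProj (quotAlg D) pB chartB ∧
        RelProj.IsRelProjMap (𝒜 := 𝒜) (ℬ := quotAlg D) (projHom D) (isGradedHom_projHom D) (irrelevant_le_projHom D)
          chart chartB h ∧ e.hom ≫ i = h := by
  obtain ⟨PB, pB, chartB, hB⟩ := Proj16.exists_isRelProj (quotAlg D)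
  obtain ⟨h, hh, -⟩ := Proj16.existsUnique_isRelProjMap (𝒜 := 𝒜) (ℬ := quotAlg D) (projHom D)
    (isGradedHom_projHom D) (irrelevant_le_projHom D) hP hB
  haveI : IsClosedImmersion h :=
    Proj16.relProjMap_of_affineOpens (𝒜 := 𝒜) (ℬ := quotAlg D) hP hB hh @IsClosedImmersion fun U hU ↦
      Proj16.isClosedImmersion_map _ _ (surjective_projHom D U hU)
  have hker : h.ker = i.ker := ker_eq_of_charts (ℬ := quotAlg D) hP hB hh i.ker fun U hU d hd g hg =>
    chart_ker_eq i.ker D hD U hU hd g hg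
  exact ⟨PB, pB, chartB, h,
    @asIso _ _ _ _ (IsClosedImmersion.lift i h hker.ge) (IsClosedImmersion.isIso_lift _ _ hker.symm),
    hB, hh, IsClosedImmersion.lift_fac _ _ _⟩

/-- The graded quotient algebra of a closed subscheme, with its defining data. -/
theorem exists_idealData (hP : RelProj.IsRelProj 𝒜 p chart) [QuasiCompact p] (K : P.IdealSheafData) :
    ∃ D : IdealData 𝒜, ∀ U hU, D.J U hU = (chartIdeals chart K U hU).toIdeal :=
  ⟨idealData hP K, fun _ _ => rfl⟩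

end Groth.Agent.RelQuot
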