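import Groth.Agent.RelQuot.DegOneMap
import Groth.Agent.RelQuot.ClosedSub
import Groth.Agent.RelTildeX.Props
import Groth.Agent.VeryAmpleX.SigTwist
import Groth.Agent.VeryAmpleX.GrSym
import Groth.Agent.VeryAmpleX.DegOne
import Groth.Agent.ProjLoc.Basic
import Groth.Agent.QCoh.FT

/-!
# Closed subschemes of projective bundles
-/

universe u

open CategoryTheory CategoryTheory.Limits AlgebraicGeometry TopologicalSpace Opposite HomogeneousLocalization
open scoped HomogeneousIdeal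

set_option linter.style.haveILetI false
set_option backward.isDefEq.respectTransparency false
set_option backward.isDefEq.respectTransparency.types false

noncomputable section

namespace Groth.Agent.RelQuot

open Groth.Agent Groth.Agent.VeryAmpleX

variable {S : Scheme.{u}} {E : S.Modules} {𝒯 : RelProj.QCGrAlg S} {j : E ⟶ 𝒯.toModule}

theorem isFTDeg_grSymAlg (hE : Coh.IsQCoh E) (hft : CohB1.IsFT E) (hT : RelProj.IsGrSymAlg E 𝒯 j) :
    𝒯.IsFTDeg 1 := fun U hU => by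
  classical
  haveI := QCoh.finite_of_isFT hE hft hU
  obtain ⟨G, hG⟩ := Module.Finite.fg_top (R := Γ(S, U)) (M := Γ(E, U))
  refine ⟨G.image (Sig.jsec j (U := U)), ?_, fun x hx => ?_⟩
  · intro y hy
    obtain ⟨m, -, rfl⟩ := Finset.mem_image.1 (Finset.mem_coe.1 hy)
    exact hT.2 U hU m
  · obtain ⟨m, rfl⟩ := Sig.exists_jsec_eq hE hT hU hx
    have hm : m ∈ Submodule.span Γ(S, U) (G : Set Γ(E, U)) := hG.ge Submodule.mem_top
    induction hm using Submodule.span_induction with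
    | mem m hm =>
      refine ⟨fun y => if y = Sig.jsec j m then 1 else 0, ?_⟩
      rw [Finset.sum_eq_single (Sig.jsec j m)]
      · simp
      · intro y _ hy; simp [hy]
      · intro h; exact absurd (Finset.mem_image_of_mem _ hm) h
    | zero => exact ⟨0, by rw [Sig.jsec_zero]; simp⟩
    | add p q _ _ hp hq =>
      obtain ⟨c, hc⟩ := hp (hT.2 U hU p)
      obtain ⟨c', hc'⟩ := hq (hT.2 U hU q)
      refine ⟨c + c', ?_⟩
      rw [Sig.jsec_add, hc, hc', ← Finset.sum_add_distrib]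
      exact Finset.sum_congr rfl fun y _ => by rw [Pi.add_apply, map_add, add_mul]
    | smul r p _ hp =>
      obtain ⟨c, hc⟩ := hp (hT.2 U hU p)
      refine ⟨fun y => r * c y, ?_⟩
      rw [Sig.jsec_smul, hc, Finset.mul_sum]
      exact Finset.sum_congr rfl fun y _ => by rw [map_mul, mul_assoc]

theorem isProper_grSymAlg {P : Scheme.{u}} {p : P ⟶ S}
    {chart : ∀ (U : S.Opens) (hU : IsAffineOpen U), ((p ⁻¹ᵁ U : P.Opens) : Scheme.{u}) ≅ Proj (𝒯.deg U hU)}
    (hE : Coh.IsQCoh E) (hft : CohB1.IsFT E) (hT : RelProj.IsGrSymAlg E 𝒯 j) (hP : RelProj.IsRelProj 𝒯 p chart) :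
    IsProper p :=
  ProjLoc.isProper_of_isProjective
    ⟨𝒯, P, p, chart, Iso.refl P, isGenDegOne_of_isGrSymAlg hE hT, isFTDeg_grSymAlg hE hft hT, hP, Category.id_comp p⟩

/-- A closed subscheme of the relative `Proj` of an algebra generated by a finite type degree one part is projective. -/
theorem isProjective_of_isClosedImmersion {𝒮 : RelProj.QCGrAlg S} {P : Scheme.{u}} {p : P ⟶ S}
    {chart : ∀ (U : S.Opens) (hU : IsAffineOpen U), ((p ⁻¹ᵁ U : P.Opens) : Scheme.{u}) ≅ Proj (𝒮.deg U hU)}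
    (hgen : 𝒮.IsGenDegOne) (hft : 𝒮.IsFTDeg 1) (hP : RelProj.IsRelProj 𝒮 p chart) {X : Scheme.{u}} (i : X ⟶ P)
    [IsClosedImmersion i] : RelProj.IsProjective (i ≫ p) := by
  haveI : IsProper p :=
    ProjLoc.isProper_of_isProjective ⟨𝒮, P, p, chart, Iso.refl P, hgen, hft, hP, Category.id_comp p⟩
  obtain ⟨D, hD⟩ := exists_idealData hP i.ker
  obtain ⟨PB, pB, chartB, h, e, hB, hh, he⟩ := exists_quotient_iso' hP i D hD
  refine ⟨quotAlg D, PB, pB, chartB, e.symm, isGenDegOne_quotAlg D hgen, isFTDeg_quotAlg D hft, hB, ?_⟩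
  rw [← Proj16.relProjMap_comp (ℬ := quotAlg D) hP hB hh, ← he, Iso.symm_hom]
  simp

theorem isFT_degOne (𝒮 : RelProj.QCGrAlg S) (hft : 𝒮.IsFTDeg 1) : CohB1.IsFT (degOne 𝒮) := by
  refine QCoh.isFT_of_finite (isQCoh_degOne 𝒮) (fun U : S.affineOpens => U.1) (iSup_affineOpens_eq_top S)
    (fun U => U.2) fun U => ⟨?_⟩
  classical
  obtain ⟨T, hT, hspan⟩ := hft U.1 U.2
  choose g hg using fun t : T => exists_degOne_eq 𝒮 U.1 U.2 t.1 (hT t.2)
  refine ⟨Finset.univ.image g, top_unique fun x _ => ?_⟩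
  obtain ⟨c, hc⟩ := hspan _ (degOneι_mem 𝒮 U.1 U.2 x)
  have hx : x = ∑ t : T, c t.1 • g t := by
    haveI : Mono (degOneι 𝒮) := inferInstanceAs (Mono (kernel.ι _))
    refine QCoh.app_injective (degOneι 𝒮) U.1 ?_
    rw [map_sum]
    refine hc.trans ((Finset.sum_coe_sort T _).symm.trans (Finset.sum_congr rfl fun t _ => ?_))
    rw [Scheme.Modules.Hom.app_smul]
    exact congrArg ((𝒮.str.app (op U.1)).hom (c t.1) * ·) (hg t).symm
  rw [hx]
  exact sum_mem fun t _ => Submodule.smul_mem _ _ (Submodule.subset_span (by simp))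

/-- The universal map of the symmetric algebra respects degrees. -/
theorem isGradedHom_of_deg_one (hE : Coh.IsQCoh E) (hT : RelProj.IsGrSymAlg E 𝒯 j) {𝒮 : RelProj.QCGrAlg S}
    (ψ : 𝒯.toQCAlg ⟶ 𝒮.toQCAlg)
    (h : ∀ (U : S.Opens) (hU : IsAffineOpen U) (m : Γ(E, U)), (ψ.hom.app (op U)).hom (Sig.jsec j m) ∈ 𝒮.deg U hU 1) :
    RelProj.IsGradedHom ψ := by
  classical
  intro U hU d x hx
  suffices H : ∀ y, (ψ.hom.app (op U)).hom (GradedRing.proj (𝒯.deg U hU) d y) ∈ 𝒮.deg U hU d by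
    have := H x
    rwa [GradedRing.proj_apply, DirectSum.decompose_of_mem_same _ hx] at this
  intro y
  have hy : y ∈ AddSubgroup.closure (Submonoid.closure (Set.range (fun r => (𝒯.str.app (op U)).hom r) ∪
      Set.range (Sig.jsec j (U := U))) : Set (𝒯.presheaf.obj (op U))) :=
    Subring.mem_closure_iff.1 ((Sig.closure_str_jsec hE hT U hU).ge (trivial : y ∈ (⊤ : Subring _)))
  induction hy using AddSubgroup.closure_induction with
  | mem z hz =>
    have key : ∃ k, z ∈ 𝒯.deg U hU k ∧ (ψ.hom.app (op U)).hom z ∈ 𝒮.deg U hU k := by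
      induction hz using Submonoid.closure_induction with
      | mem w hw =>
        rcases hw with ⟨r, rfl⟩ | ⟨m, rfl⟩
        · refine ⟨0, 𝒯.str_mem U hU r, ?_⟩
          rw [show (ψ.hom.app (op U)).hom ((𝒯.str.app (op U)).hom r) = (𝒮.str.app (op U)).hom r from
            congr($(congr_app ψ.comm (op U)) r)]
          exact 𝒮.str_mem U hU r
        · exact ⟨1, hT.2 U hU m, h U hU m⟩
      | one => exact ⟨0, SetLike.one_mem_graded _, by rw [map_one]; exact SetLike.one_mem_graded _⟩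
      | mul a b _ _ iha ihb =>
        obtain ⟨k, hk, hk'⟩ := iha
        obtain ⟨l, hl, hl'⟩ := ihb
        exact ⟨k + l, SetLike.mul_mem_graded hk hl, by rw [map_mul]; exact SetLike.mul_mem_graded hk' hl'⟩
    obtain ⟨k, hk, hk'⟩ := key
    rcases eq_or_ne k d with rfl | hne
    · rwa [GradedRing.proj_apply, DirectSum.decompose_of_mem_same _ hk]
    · rw [GradedRing.proj_apply, DirectSum.decompose_of_mem_ne _ hk hne, map_zero]
      exact zero_mem _
  | zero => rw [map_zero, map_zero]; exact zero_mem _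
  | add a b _ _ iha ihb => rw [map_add, map_add]; exact add_mem iha ihb
  | neg a _ iha => rw [map_neg, map_neg]; exact neg_mem iha

/-- A relative `Proj` generated by a finite type degree one part is a closed subscheme of a projective bundle. -/
theorem exists_closedImmersion_bundle {𝒮 : RelProj.QCGrAlg S} {P : Scheme.{u}} {p : P ⟶ S}
    {chart : ∀ (U : S.Opens) (hU : IsAffineOpen U), ((p ⁻¹ᵁ U : P.Opens) : Scheme.{u}) ≅ Proj (𝒮.deg U hU)}
    (hgen : 𝒮.IsGenDegOne) (hP : RelProj.IsRelProj 𝒮 p chart) :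
    ∃ (𝒯 : RelProj.QCGrAlg S) (j : degOne 𝒮 ⟶ 𝒯.toModule) (PT : Scheme.{u}) (pT : PT ⟶ S)
      (chartT : ∀ (U : S.Opens) (hU : IsAffineOpen U), ((pT ⁻¹ᵁ U : PT.Opens) : Scheme.{u}) ≅ Proj (𝒯.deg U hU))
      (i : P ⟶ PT),
      RelProj.IsGrSymAlg (degOne 𝒮) 𝒯 j ∧ RelProj.IsRelProj 𝒯 pT chartT ∧ IsClosedImmersion i ∧ i ≫ pT = p := by
  obtain ⟨𝒯, j, hT⟩ := exists_isGrSymAlg (isQCoh_degOne 𝒮)
  obtain ⟨ψ, hψ, -⟩ := hT.1 𝒮.toQCAlg (degOneι 𝒮)
  have hj : ∀ (U : S.Opens) (x : Γ(degOne 𝒮, U)), (ψ.hom.app (op U)).hom (Sig.jsec j x) =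
      (show 𝒮.presheaf.obj (op U) from (degOneι 𝒮).app U x) := fun U x => congrArg (fun φ => φ.app U x) hψ
  have hgr : RelProj.IsGradedHom ψ := isGradedHom_of_deg_one (isQCoh_degOne 𝒮) hT ψ fun U hU m => by
    rw [hj]; exact degOneι_mem 𝒮 U hU m
  have hdeg : ∀ (U : S.Opens) (hU : IsAffineOpen U) (n : ℕ), 0 < n → ∀ b ∈ 𝒮.deg U hU n,
      ∃ a ∈ 𝒯.deg U hU n, RelProj.gradedHomAt ψ hgr U hU a = b := fun U hU =>
    exists_deg_preimage _ (RelTildeX.irrelevant_eq_span_deg_one hgen U hU) fun b hb => by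
      obtain ⟨x, hx⟩ := exists_degOne_eq 𝒮 U hU b hb
      exact ⟨Sig.jsec j x, hT.2 U hU x, (hj U x).trans hx⟩
  have hirr := fun (U : S.Opens) (hU : IsAffineOpen U) => irrelevant_le_of_deg _ (hdeg U hU)
  obtain ⟨PT, pT, chartT, hPT⟩ := Proj16.exists_isRelProj 𝒯
  obtain ⟨h, hh, -⟩ := Proj16.existsUnique_isRelProjMap ψ hgr hirr hPT hP
  exact ⟨𝒯, j, PT, pT, chartT, h, hT, hPT,
    Proj16.relProjMap_of_affineOpens hPT hP hh @IsClosedImmersion fun U hU =>
      isClosedImmersion_map_of_deg _ _ (hdeg U hU),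
    Proj16.relProjMap_comp hPT hP hh⟩

end Groth.Agent.RelQuot
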