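import Groth.Agent.Proj16.Map
import Groth.Agent.Proj16.RelMap
import Groth.Prelude.Def_RelProj2

/-!
# Morphisms of `Proj` given by maps surjective in positive degrees
-/

universe u

open CategoryTheory CategoryTheory.Limits AlgebraicGeometry TopologicalSpace Opposite HomogeneousLocalization
open scoped HomogeneousIdeal

set_option linter.style.haveILetI false
set_option backward.isDefEq.respectTransparency false
set_option backward.isDefEq.respectTransparency.types false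

noncomputable section

namespace Groth.Agent.RelQuot

open Groth.Agent

variable {A B : Type u} [CommRing A] [CommRing B] {𝒜 : ℕ → AddSubgroup A} [GradedRing 𝒜]
  {ℬ : ℕ → AddSubgroup B} [GradedRing ℬ] (ψ : 𝒜 →+*ᵍ ℬ)

/-- Surjectivity in degree one spreads to all positive degrees. -/
theorem exists_deg_preimage (hB : (HomogeneousIdeal.irrelevant ℬ).toIdeal = Ideal.span (ℬ 1 : Set B))
    (h1 : ∀ b ∈ ℬ 1, ∃ a ∈ 𝒜 1, ψ a = b) : ∀ n, 0 < n → ∀ b ∈ ℬ n, ∃ a ∈ 𝒜 n, ψ a = b := by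
  classical
  intro n hn
  induction n, Nat.one_le_iff_ne_zero.mpr hn.ne' using Nat.le_induction with
  | base => exact h1
  | succ n hn' ih =>
    intro b hb
    have hbm : b ∈ Ideal.span (ℬ 1 : Set B) := hB ▸ HomogeneousIdeal.mem_irrelevant_of_mem ℬ hn hb
    have hgood : ∀ y ∈ Ideal.span (ℬ 1 : Set B), ∀ c : B, ∃ a ∈ 𝒜 (n + 1),
        ψ a = (DirectSum.decompose ℬ (c * y) (n + 1) : B) := by
      intro y hy
      induction hy using Submodule.span_induction with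
      | mem y hy =>
        intro c
        obtain ⟨a₁, ha₁, rfl⟩ := h1 y hy
        obtain ⟨a, ha, he⟩ := ih hn' _ (SetLike.coe_mem (DirectSum.decompose ℬ c n))
        refine ⟨a * a₁, SetLike.mul_mem_graded ha ha₁, ?_⟩
        have hm : ψ a₁ ∈ ℬ 1 := ψ.map_mem ha₁
        rw [map_mul, he, DirectSum.coe_decompose_mul_add_of_right_mem ℬ hm]
      | zero => exact fun c => ⟨0, zero_mem _, by simp⟩
      | add p q _ _ hp hq =>
        intro c
        obtain ⟨a, ha, hea⟩ := hp c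
        obtain ⟨a', ha', hea'⟩ := hq c
        refine ⟨a + a', add_mem ha ha', ?_⟩
        rw [map_add, hea, hea', mul_add, DirectSum.decompose_add, DirectSum.add_apply, AddMemClass.coe_add]
      | smul r p _ hp =>
        intro c
        obtain ⟨a, ha, hea⟩ := hp (c * r)
        exact ⟨a, ha, by rw [hea, smul_eq_mul, mul_assoc]⟩
    obtain ⟨a, ha, he⟩ := hgood b hbm 1
    exact ⟨a, ha, by rw [he, one_mul, DirectSum.decompose_of_mem_same ℬ hb]⟩

theorem awayMap_surjective_of_deg (h : ∀ n, 0 < n → ∀ b ∈ ℬ n, ∃ a ∈ 𝒜 n, ψ a = b) {s : A} {d : ℕ} (hd : 0 < d)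
    (hs : s ∈ 𝒜 d) : Function.Surjective (Away.map ψ s) := by
  intro z
  have hs' : ψ s ∈ ℬ d := ψ.map_mem hs
  obtain ⟨n, b, hb, rfl⟩ := z.mk_surjective ℬ hs'
  have hb' : b * ψ s ∈ ℬ ((n + 1) • d) := by
    rw [add_smul, one_smul]; exact SetLike.mul_mem_graded hb hs'
  obtain ⟨a, ha, he⟩ := h _ (Nat.mul_pos n.succ_pos hd) _ hb'
  refine ⟨Away.mk 𝒜 hs (n + 1) a ha, ?_⟩
  rw [Away.map_mk]
  apply HomogeneousLocalization.val_injective
  simp only [Away.val_mk]
  rw [Localization.mk_eq_mk_iff, Localization.r_iff_exists]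
  refine ⟨1, ?_⟩
  show (1 : B) * (ψ s ^ n * ψ a) = 1 * (ψ s ^ (n + 1) * b)
  rw [he]
  ring

theorem isClosedImmersion_map_of_deg (hψ : ℬ₊ ≤ (𝒜₊).map ψ)
    (h : ∀ n, 0 < n → ∀ b ∈ ℬ n, ∃ a ∈ 𝒜 n, ψ a = b) : IsClosedImmersion (Proj.map ψ hψ) :=
  Proj16.map_of_away ψ hψ fun _ _ hd hs ↦
    IsClosedImmersion.spec_of_surjective _ (awayMap_surjective_of_deg ψ h hd hs)

theorem irrelevant_le_of_deg (h : ∀ n, 0 < n → ∀ b ∈ ℬ n, ∃ a ∈ 𝒜 n, ψ a = b) : ℬ₊ ≤ (𝒜₊).map ψ := by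
  rw [HomogeneousIdeal.irrelevant_le]
  intro n hn b hb
  obtain ⟨a, ha, rfl⟩ := h n hn b hb
  exact Ideal.mem_map_of_mem _ (HomogeneousIdeal.mem_irrelevant_of_mem _ hn ha)

end Groth.Agent.RelQuot
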