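import Mathlib.RingTheory.GradedAlgebra.HomogeneousLocalization
import Mathlib.RingTheory.GradedAlgebra.Radical

/-!
# The homogeneous ideal of a compatible family of ideals of the standard charts
-/

universe u

open DirectSum SetLike HomogeneousLocalization

noncomputable section

namespace Groth.Agent.RelQuot

variable {A : Type u} [CommRing A] (𝒜 : ℕ → AddSubgroup A) [GradedRing 𝒜]

/-- Two representations of one fraction. -/
theorem exists_eq_of_mk_eq {e : ℕ} {x : A} (hx : x ∈ 𝒜 e) {k l : ℕ} {a b : A} (ha : a ∈ 𝒜 (k • e))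
    (hb : b ∈ 𝒜 (l • e)) (h : Away.mk 𝒜 hx k a ha = Away.mk 𝒜 hx l b hb) :
    ∃ N : ℕ, x ^ N * (x ^ l * a) = x ^ N * (x ^ k * b) := by
  have h' := congrArg HomogeneousLocalization.val h
  rw [Away.val_mk, Away.val_mk, Localization.mk_eq_mk_iff, Localization.r_iff_exists] at h'
  obtain ⟨⟨_, N, rfl⟩, hN⟩ := h'
  exact ⟨N, hN⟩

theorem mk_mul_mk {e : ℕ} {x : A} (hx : x ∈ 𝒜 e) {k l : ℕ} {a b : A} (ha : a ∈ 𝒜 (k • e)) (hb : b ∈ 𝒜 (l • e))
    (hab : a * b ∈ 𝒜 ((k + l) • e)) :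
    Away.mk 𝒜 hx k a ha * Away.mk 𝒜 hx l b hb = Away.mk 𝒜 hx (k + l) (a * b) hab := by
  apply HomogeneousLocalization.val_injective
  simp only [HomogeneousLocalization.val_mul, Away.val_mk, Localization.mk_mul]
  congr 1
  exact Subtype.ext (pow_add x k l).symm

theorem mk_add_mk {e : ℕ} {x : A} (hx : x ∈ 𝒜 e) {k l : ℕ} {a b : A} (ha : a ∈ 𝒜 (k • e)) (hb : b ∈ 𝒜 (l • e))
    (hab : x ^ l * a + x ^ k * b ∈ 𝒜 ((k + l) • e)) :
    Away.mk 𝒜 hx k a ha + Away.mk 𝒜 hx l b hb = Away.mk 𝒜 hx (k + l) (x ^ l * a + x ^ k * b) hab := by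
  apply HomogeneousLocalization.val_injective
  simp only [HomogeneousLocalization.val_add, Away.val_mk, Localization.add_mk]
  rw [Localization.mk_eq_mk_iff, Localization.r_iff_exists]
  refine ⟨1, ?_⟩
  simp only [Submonoid.coe_mul, OneMemClass.coe_one, one_mul, pow_add]
  ring

theorem add_mem_deg {e : ℕ} {x : A} (hx : x ∈ 𝒜 e) {k l : ℕ} {a b : A} (ha : a ∈ 𝒜 (k • e)) (hb : b ∈ 𝒜 (l • e)) :
    x ^ l * a + x ^ k * b ∈ 𝒜 ((k + l) • e) := by
  refine add_mem ?_ ?_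
  · rw [add_smul, add_comm]; exact SetLike.mul_mem_graded (SetLike.pow_mem_graded l hx) ha
  · rw [add_smul]; exact SetLike.mul_mem_graded (SetLike.pow_mem_graded k hx) hb

/-- Elements of an extended ideal have, up to a power, numerators in `G`. -/
theorem exists_pow_mul_mem_of_mem_map {e : ℕ} {x : A} (hx : x ∈ 𝒜 e) {G : Ideal A} {R : Type u} [CommRing R]
    (ψ : R →+* Away 𝒜 x) {I : Ideal R}
    (h : ∀ z ∈ I, ∃ (l : ℕ) (y : A) (hy : y ∈ 𝒜 (l • e)), y ∈ G ∧ ψ z = Away.mk 𝒜 hx l y hy)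
    {k : ℕ} {a : A} (ha : a ∈ 𝒜 (k • e)) (hw : Away.mk 𝒜 hx k a ha ∈ I.map ψ) :
    ∃ M : ℕ, x ^ M * a ∈ G := by
  have key : ∀ w ∈ I.map ψ, ∃ (l : ℕ) (y : A) (hy : y ∈ 𝒜 (l • e)), y ∈ G ∧ w = Away.mk 𝒜 hx l y hy := by
    intro w hw
    induction hw using Submodule.span_induction with
    | mem z hz =>
      obtain ⟨z, hz, rfl⟩ := hz
      exact h z hz
    | zero =>
      refine ⟨0, 0, zero_mem _, zero_mem _, ?_⟩
      apply HomogeneousLocalization.val_injective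
      simp [Away.val_mk, Localization.mk_zero]
    | add p q _ _ hp hq =>
      obtain ⟨l, y, hy, hyG, rfl⟩ := hp
      obtain ⟨l', y', hy', hyG', rfl⟩ := hq
      exact ⟨l + l', _, add_mem_deg 𝒜 hx hy hy', add_mem (G.mul_mem_left _ hyG) (G.mul_mem_left _ hyG'),
        mk_add_mk 𝒜 hx hy hy' _⟩
    | smul c p _ hp =>
      obtain ⟨l, y, hy, hyG, rfl⟩ := hp
      obtain ⟨m, b, hb, rfl⟩ := Away.mk_surjective 𝒜 hx c
      exact ⟨m + l, b * y, by rw [add_smul]; exact SetLike.mul_mem_graded hb hy, G.mul_mem_left _ hyG,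
        mk_mul_mk 𝒜 hx hb hy _⟩
  obtain ⟨l, y, hy, hyG, he⟩ := key _ hw
  obtain ⟨N, hN⟩ := exists_eq_of_mk_eq 𝒜 hx ha hy he
  exact ⟨N + l, by rw [pow_add, mul_assoc, hN]; exact G.mul_mem_left _ (G.mul_mem_left _ hyG)⟩

/-- A compatible family of ideals on the standard charts. -/
structure ChartIdeals where
  /-- the ideal on a chart -/
  I : ∀ (d : ℕ), 0 < d → ∀ (g : A), g ∈ 𝒜 d → Ideal (Away 𝒜 g)
  /-- agreement on overlaps -/
  compat : ∀ {d e : ℕ} (hd : 0 < d) (he : 0 < e) {g h : A} (hg : g ∈ 𝒜 d) (hh : h ∈ 𝒜 e),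
    (I d hd g hg).map (awayMap 𝒜 hh rfl) = (I e he h hh).map (awayMap 𝒜 hg (mul_comm g h))

variable {𝒜} (F : ChartIdeals 𝒜)

namespace ChartIdeals

/-- Numerators of fractions in the ideal of a chart. -/
def num {d : ℕ} (hd : 0 < d) {g : A} (hg : g ∈ 𝒜 d) : Set A :=
  {a | ∃ (k : ℕ) (ha : a ∈ 𝒜 (k • d)), Away.mk 𝒜 hg k a ha ∈ F.I d hd g hg}

/-- The ideal generated by the numerators. -/
def numIdeal {d : ℕ} (hd : 0 < d) {g : A} (hg : g ∈ 𝒜 d) : Ideal A := Ideal.span (F.num hd hg)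

theorem numIdeal_isHomogeneous {d : ℕ} (hd : 0 < d) {g : A} (hg : g ∈ 𝒜 d) :
    (F.numIdeal hd hg).IsHomogeneous 𝒜 :=
  Ideal.homogeneous_span _ _ (by rintro a ⟨k, ha, -⟩; exact ⟨k • d, ha⟩)

/-- The homogeneous ideal of the family. -/
def toIdeal : Ideal A where
  carrier := {x | ∀ (d : ℕ) (hd : 0 < d) (g : A) (hg : g ∈ 𝒜 d), ∃ N : ℕ, g ^ N * x ∈ F.numIdeal hd hg}
  zero_mem' := fun d hd g hg => ⟨0, by rw [mul_zero]; exact zero_mem _⟩
  add_mem' := fun {x y} hx hy d hd g hg => by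
    obtain ⟨N, hN⟩ := hx d hd g hg
    obtain ⟨M, hM⟩ := hy d hd g hg
    refine ⟨N + M, ?_⟩
    rw [show g ^ (N + M) * (x + y) = g ^ M * (g ^ N * x) + g ^ N * (g ^ M * y) by ring]
    exact add_mem (Ideal.mul_mem_left _ _ hN) (Ideal.mul_mem_left _ _ hM)
  smul_mem' := fun c x hx d hd g hg => by
    obtain ⟨N, hN⟩ := hx d hd g hg
    exact ⟨N, by rw [smul_eq_mul, mul_left_comm]; exact Ideal.mul_mem_left _ _ hN⟩

theorem toIdeal_isHomogeneous : F.toIdeal.IsHomogeneous 𝒜 := by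
  intro n x hx d hd g hg
  obtain ⟨N, hN⟩ := hx d hd g hg
  refine ⟨N, ?_⟩
  have := F.numIdeal_isHomogeneous hd hg (N • d + n) hN
  rwa [DirectSum.coe_decompose_mul_add_of_left_mem 𝒜 (SetLike.pow_mem_graded N hg)] at this

theorem num_overlap {d e : ℕ} (hd : 0 < d) (he : 0 < e) {g h : A} (hg : g ∈ 𝒜 d) (hh : h ∈ 𝒜 e) {a : A}
    (ha : a ∈ F.num hd hg) : ∃ M : ℕ, (g * h) ^ M * a ∈ F.numIdeal he hh := by
  obtain ⟨k, hak, hI⟩ := ha
  have h1 := Ideal.mem_map_of_mem (awayMap 𝒜 hh rfl) hI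
  rw [awayMap_mk 𝒜 hh rfl k hg a hak, F.compat hd he hg hh] at h1
  obtain ⟨M, hM⟩ := exists_pow_mul_mem_of_mem_map 𝒜 _ (G := F.numIdeal he hh) _ (fun z hz => by
    obtain ⟨l, b, hb, rfl⟩ := Away.mk_surjective 𝒜 hh z
    refine ⟨l, b * g ^ l, ?_, Ideal.mul_mem_right _ _ (Ideal.subset_span ⟨l, hb, hz⟩), ?_⟩
    · rw [smul_add, add_comm]; exact SetLike.mul_mem_graded hb (SetLike.pow_mem_graded l hg)
    · apply HomogeneousLocalization.val_injective
      rw [awayMap_mk, Away.val_mk, Away.val_mk]) _ h1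
  refine ⟨M + k, ?_⟩
  rw [show (g * h) ^ (M + k) * a = g ^ k * ((g * h) ^ M * (a * h ^ k)) by ring]
  exact Ideal.mul_mem_left _ _ hM

theorem numIdeal_overlap {d e : ℕ} (hd : 0 < d) (he : 0 < e) {g h : A} (hg : g ∈ 𝒜 d) (hh : h ∈ 𝒜 e) {x : A}
    (hx : x ∈ F.numIdeal hd hg) : ∃ M : ℕ, (g * h) ^ M * x ∈ F.numIdeal he hh := by
  induction hx using Submodule.span_induction with
  | mem a ha => exact F.num_overlap hd he hg hh ha
  | zero => exact ⟨0, by rw [mul_zero]; exact zero_mem _⟩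
  | add p q _ _ hp hq =>
    obtain ⟨N, hN⟩ := hp
    obtain ⟨M, hM⟩ := hq
    refine ⟨N + M, ?_⟩
    rw [show (g * h) ^ (N + M) * (p + q) = (g * h) ^ M * ((g * h) ^ N * p) + (g * h) ^ N * ((g * h) ^ M * q) by ring]
    exact add_mem (Ideal.mul_mem_left _ _ hN) (Ideal.mul_mem_left _ _ hM)
  | smul c p _ hp =>
    obtain ⟨N, hN⟩ := hp
    exact ⟨N, by rw [smul_eq_mul, mul_left_comm]; exact Ideal.mul_mem_left _ _ hN⟩

section cover

variable {ι : Type*} [Finite ι] {deg : ι → ℕ} (hdeg : ∀ i, 0 < deg i) {gen : ι → A} (hgen : ∀ i, gen i ∈ 𝒜 (deg i))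
  (hcov : (HomogeneousIdeal.irrelevant 𝒜).toIdeal ≤ (Ideal.span (Set.range gen)).radical)

include hcov in
/-- Membership can be tested on a finite cover. -/
theorem mem_toIdeal_of_cover {x : A} (h : ∀ i, ∃ N : ℕ, gen i ^ N * x ∈ F.numIdeal (hdeg i) (hgen i)) :
    x ∈ F.toIdeal := by
  intro d hd g hg
  have h' : ∀ i, ∃ M : ℕ, g ^ M * gen i ^ M * x ∈ F.numIdeal hd hg := fun i => by
    obtain ⟨N, hN⟩ := h i
    obtain ⟨M, hM⟩ := F.numIdeal_overlap (hdeg i) hd (hgen i) hg hN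
    refine ⟨M + N, ?_⟩
    rw [show g ^ (M + N) * gen i ^ (M + N) * x = g ^ N * ((gen i * g) ^ M * (gen i ^ N * x)) by ring]
    exact Ideal.mul_mem_left _ _ hM
  choose M hM using h'
  obtain ⟨M₀, hM₀⟩ := Finite.exists_le M
  have h2 : g ∈ (Ideal.span (Set.range fun i => gen i ^ M₀)).radical := by
    have hsub : (Ideal.span (Set.range gen)).radical ≤ (Ideal.span (Set.range fun i => gen i ^ M₀)).radical := by
      rw [Ideal.radical_le_radical_iff, Ideal.span_le]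
      rintro _ ⟨i, rfl⟩
      exact ⟨M₀, Ideal.subset_span ⟨i, rfl⟩⟩
    exact hsub (hcov (HomogeneousIdeal.mem_irrelevant_of_mem 𝒜 hd hg))
  obtain ⟨R, hR⟩ := h2
  refine ⟨M₀ + R, ?_⟩
  suffices hle : Ideal.span (Set.range fun i => gen i ^ M₀) ≤
      (F.numIdeal hd hg).colon ({g ^ M₀ * x} : Set A) by
    rw [pow_add, show g ^ M₀ * g ^ R * x = g ^ R * (g ^ M₀ * x) by ring]
    exact Submodule.mem_colon_singleton.1 (hle hR)
  rw [Ideal.span_le]
  rintro _ ⟨i, rfl⟩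
  obtain ⟨r, hr⟩ := Nat.exists_eq_add_of_le (hM₀ i)
  refine Submodule.mem_colon_singleton.2 ?_
  rw [smul_eq_mul, hr, show gen i ^ (M i + r) * (g ^ (M i + r) * x) =
    g ^ r * gen i ^ r * (g ^ M i * gen i ^ M i * x) by ring]
  exact Ideal.mul_mem_left _ _ (hM i)

include hdeg hgen hcov in
/-- The numerators of a chart lie, up to a power, in the ideal. -/
theorem exists_pow_mul_mem_toIdeal {d : ℕ} (hd : 0 < d) {g : A} (hg : g ∈ 𝒜 d) {a : A} (ha : a ∈ F.num hd hg) :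
    ∃ N : ℕ, g ^ N * a ∈ F.toIdeal := by
  choose M hM using fun i => F.num_overlap hd (hdeg i) hg (hgen i) ha
  obtain ⟨M₀, hM₀⟩ := Finite.exists_le M
  refine ⟨M₀, F.mem_toIdeal_of_cover hdeg hgen hcov fun i => ⟨M₀, ?_⟩⟩
  obtain ⟨r, hr⟩ := Nat.exists_eq_add_of_le (hM₀ i)
  rw [hr, show gen i ^ (M i + r) * (g ^ (M i + r) * a) = g ^ r * gen i ^ r * ((g * gen i) ^ M i * a) by ring]
  exact Ideal.mul_mem_left _ _ (hM i)

end cover

theorem mk_proj_mem {d : ℕ} (hd : 0 < d) {g : A} (hg : g ∈ 𝒜 d) {y : A} (hy : y ∈ F.numIdeal hd hg) :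
    ∀ l : ℕ, Away.mk 𝒜 hg l (DirectSum.decompose 𝒜 y (l • d) : A) (SetLike.coe_mem _) ∈ F.I d hd g hg := by
  classical
  have hmkadd : ∀ {l : ℕ} {p q : A} (hp : p ∈ 𝒜 (l • d)) (hq : q ∈ 𝒜 (l • d)),
      Away.mk 𝒜 hg l (p + q) (add_mem hp hq) = Away.mk 𝒜 hg l p hp + Away.mk 𝒜 hg l q hq := fun hp hq => by
    apply HomogeneousLocalization.val_injective
    simp only [Away.val_mk, HomogeneousLocalization.val_add, Localization.add_mk_self]
  have hzero : ∀ {l : ℕ} (h : (0 : A) ∈ 𝒜 (l • d)), Away.mk 𝒜 hg l 0 h = 0 := fun h => by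
    apply HomogeneousLocalization.val_injective
    simp [Away.val_mk, Localization.mk_zero]
  let K : Set A := {y | ∀ l : ℕ, Away.mk 𝒜 hg l (DirectSum.decompose 𝒜 y (l • d) : A) (SetLike.coe_mem _) ∈ F.I d hd g hg}
  have hKadd : ∀ p q, p ∈ K → q ∈ K → p + q ∈ K := fun p q hp hq l => by
    simp only [DirectSum.decompose_add, DirectSum.add_apply, AddMemClass.coe_add]
    rw [hmkadd (SetLike.coe_mem _) (SetLike.coe_mem _)]
    exact add_mem (hp l) (hq l)
  have hK0 : (0 : A) ∈ K := fun l => by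
    simp only [DirectSum.decompose_zero, DirectSum.zero_apply, ZeroMemClass.coe_zero, hzero]
    exact zero_mem _
  suffices hle : ∀ c a, a ∈ F.num hd hg → c * a ∈ K by
    intro l
    suffices hs : ∀ y ∈ F.numIdeal hd hg, ∀ c, c * y ∈ K by simpa using hs y hy 1 l
    intro y hy
    induction hy using Submodule.span_induction with
    | mem a ha => exact fun c => hle c a ha
    | zero => intro c; rw [mul_zero]; exact hK0
    | add p q _ _ hp hq => intro c; rw [mul_add]; exact hKadd _ _ (hp c) (hq c)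
    | smul b p _ hp => intro c; rw [smul_eq_mul, ← mul_assoc]; exact hp (c * b)
  intro c a ⟨k, ha, hI⟩
  induction c using DirectSum.Decomposition.inductionOn 𝒜 with
  | zero => rw [zero_mul]; exact hK0
  | @homogeneous m c =>
    intro l
    have hca : (c : A) * a ∈ 𝒜 (m + k • d) := SetLike.mul_mem_graded c.2 ha
    by_cases hm : m + k • d = l • d
    · have hkl : k ≤ l := Nat.le_of_mul_le_mul_right (by simp only [smul_eq_mul] at hm; omega) hd
      obtain ⟨r, rfl⟩ := Nat.exists_eq_add_of_le hkl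
      have hm' : m = r • d := by simp only [smul_eq_mul, add_mul] at hm ⊢; omega
      have hcr : (c : A) ∈ 𝒜 (r • d) := hm' ▸ c.2
      have e := mk_mul_mk 𝒜 hg hcr ha (by rw [add_smul]; exact SetLike.mul_mem_graded hcr ha)
      have e' : Away.mk 𝒜 hg (k + r) (DirectSum.decompose 𝒜 ((c : A) * a) ((k + r) • d) : A) (SetLike.coe_mem _) =
          Away.mk 𝒜 hg r c hcr * Away.mk 𝒜 hg k a ha := by
        rw [e]
        apply HomogeneousLocalization.val_injective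
        simp only [Away.val_mk, DirectSum.decompose_of_mem_same 𝒜 (hm ▸ hca), add_comm k r]
      rw [e']
      exact Ideal.mul_mem_left _ _ hI
    · simp only [DirectSum.decompose_of_mem_ne 𝒜 hca hm, hzero]
      exact zero_mem _
  | add p q hp hq => rw [add_mul]; exact hKadd _ _ hp hq

theorem mk_mem_of_mem_toIdeal {d : ℕ} (hd : 0 < d) {g : A} (hg : g ∈ 𝒜 d) {k : ℕ} {a : A} (ha : a ∈ 𝒜 (k • d))
    {N : ℕ} (hN : g ^ N * a ∈ F.toIdeal) : Away.mk 𝒜 hg k a ha ∈ F.I d hd g hg := by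
  obtain ⟨M, hM⟩ := hN d hd g hg
  have hmem : g ^ M * (g ^ N * a) ∈ 𝒜 ((M + (N + k)) • d) := by
    rw [add_smul, add_smul]
    exact SetLike.mul_mem_graded (SetLike.pow_mem_graded M hg) (SetLike.mul_mem_graded (SetLike.pow_mem_graded N hg) ha)
  have h1 := F.mk_proj_mem hd hg hM (M + (N + k))
  convert h1 using 1
  apply HomogeneousLocalization.val_injective
  simp only [Away.val_mk, DirectSum.decompose_of_mem_same 𝒜 hmem]
  rw [Localization.mk_eq_mk_iff, Localization.r_iff_exists]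
  exact ⟨1, by simp only [OneMemClass.coe_one, one_mul, pow_add]; ring⟩

end ChartIdeals

end Groth.Agent.RelQuot
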