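import Groth.Agent.RelQuot.Bundle
import Groth.Agent.VeryAmpleX.SigFT
import Groth.Agent.VeryAmpleX.Eventually
import Groth.Agent.RelTwistX.Comap
import Groth.Agent.RelTwistX.Projective

/-!
# Open dense immersions into projective schemes
-/

universe u

open CategoryTheory CategoryTheory.Limits AlgebraicGeometry TopologicalSpace Opposite

set_option linter.style.haveILetI false
set_option backward.isDefEq.respectTransparency false
set_option backward.isDefEq.respectTransparency.types false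
set_option maxHeartbeats 800000

noncomputable section

namespace Groth.Agent.RelQuot

open Groth.Agent Groth.Agent.VeryAmpleX

variable {X S : Scheme.{u}} {f : X ⟶ S}

/-- Over a quasi-compact quasi-separated base a very ample module comes from an open dense immersion into a
relative `Proj`. -/
theorem exists_openDense_of_isRelVeryAmple [CompactSpace S] [QuasiSeparatedSpace S] [LocallyOfFiniteType f]
    [QuasiCompact f] {L : X.Modules} (h : RelProj.IsRelVeryAmple f L) :
    ∃ (𝒮 : RelProj.QCGrAlg S) (P : Scheme.{u}) (p : P ⟶ S)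
      (chart : ∀ (U : S.Opens) (hU : IsAffineOpen U), ((p ⁻¹ᵁ U : P.Opens) : Scheme.{u}) ≅ Proj (𝒮.deg U hU))
      (O1 : P.Modules)
      (lam : ∀ (U : S.Opens) (hU : IsAffineOpen U),
        O1 ⟶ (Scheme.Modules.pushforward (RelProj.emb p chart U hU)).obj (GrTwist.twist (𝒮.deg U hU) 1))
      (i : X ⟶ P),
      𝒮.IsGenDegOne ∧ 𝒮.IsFTDeg 1 ∧ RelProj.IsRelProj 𝒮 p chart ∧ RelProj.IsRelTwist 𝒮 p chart 1 O1 lam ∧
        IsOpenImmersion i ∧ Dense (Set.range i.base) ∧ i ≫ p = f ∧
        Nonempty (L ≅ (Scheme.Modules.pullback i).obj O1) := by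
  obtain ⟨E, hE, σ, hft, hσ⟩ := Sig.exists_ft_map h
  obtain ⟨𝒯, j, P, p, chart, O1, lam, i, hT, hP, hO1, hi, hip, ⟨e1⟩⟩ := Sig.exists_immersion_of_immAt hE hσ
  haveI := hi
  haveI := isProper_grSymAlg hE hft hT hP
  haveI : QuasiCompact i := by
    haveI : QuasiCompact (i ≫ p) := by rw [hip]; infer_instance
    exact QuasiCompact.of_comp i p
  obtain ⟨D, hD⟩ := exists_idealData hP i.imageι.ker
  obtain ⟨PB, pB, chartB, hh, e, hB, hhm, he⟩ := exists_quotient_iso' hP i.imageι D hD
  have hgen := isGenDegOne_of_isGrSymAlg hE hT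
  have hO1B := RelTwistX.isRelTwist hB (n := 1)
  obtain ⟨c⟩ := RelTwistX.nonempty_iso_pullback_twist (ℬ := quotAlg D) hhm hgen hP hB hO1 hO1B
  haveI : IsOpenImmersion (i.toImage ≫ e.inv) := inferInstance
  have hfac : (i.toImage ≫ e.inv) ≫ hh = i := by
    rw [← he]; simp
  refine ⟨quotAlg D, PB, pB, chartB, _, _, i.toImage ≫ e.inv, isGenDegOne_quotAlg D hgen,
    isFTDeg_quotAlg D (isFTDeg_grSymAlg hE hft hT), hB, hO1B, inferInstance, ?_, ?_, ⟨?_⟩⟩
  · exact (i.toImage ≫ e.inv).denseRange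
  · rw [← Proj16.relProjMap_comp (ℬ := quotAlg D) hP hB hhm, ← Category.assoc, hfac, hip]
  · exact e1 ≪≫ ((Scheme.Modules.pullbackCongr hfac.symm).app _) ≪≫
      ((Scheme.Modules.pullbackComp (i.toImage ≫ e.inv) hh).app O1).symm ≪≫
      (Scheme.Modules.pullback (i.toImage ≫ e.inv)).mapIso c

/-- A quasi-projective morphism over a quasi-compact quasi-separated base has an open dense immersion into a
projective one. -/
theorem exists_openDense_of_isQuasiProjective [CompactSpace S] [QuasiSeparatedSpace S]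
    (hq : RelProj.IsQuasiProjective f) :
    ∃ (𝒮 : RelProj.QCGrAlg S) (P : Scheme.{u}) (p : P ⟶ S)
      (chart : ∀ (U : S.Opens) (hU : IsAffineOpen U), ((p ⁻¹ᵁ U : P.Opens) : Scheme.{u}) ≅ Proj (𝒮.deg U hU))
      (j : X ⟶ P), 𝒮.IsGenDegOne ∧ 𝒮.IsFTDeg 1 ∧ RelProj.IsRelProj 𝒮 p chart ∧
        IsOpenImmersion j ∧ Dense (Set.range j.base) ∧ j ≫ p = f := by
  obtain ⟨hlft, hqc, L, hA⟩ := hq
  haveI := hlft
  haveI := hqc
  obtain ⟨n₀, hn⟩ := eventually_isRelVeryAmple f (AmpleX.isInvertible_of_isRelAmple hA) hA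
    (InvX.isInvertible_structureModule (X := X))
  obtain ⟨𝒮, P, p, chart, -, -, i, hgen, hft, hP, -, hi, hd, hip, -⟩ :=
    exists_openDense_of_isRelVeryAmple (hn n₀ le_rfl)
  exact ⟨𝒮, P, p, chart, i, hgen, hft, hP, hi, hd, hip⟩

/-- An open subscheme of a projective scheme which is quasi-compact over the base is quasi-projective. -/
theorem isQuasiProjective_of_openImmersion [LocallyOfFiniteType f] [QuasiCompact f] {P : Scheme.{u}} {p : P ⟶ S}
    (hp : RelProj.IsProjective p) (j : X ⟶ P) [IsOpenImmersion j] (hj : j ≫ p = f) :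
    RelProj.IsQuasiProjective f := by
  haveI := ProjLoc.isProper_of_isProjective hp
  obtain ⟨-, -, L, hA⟩ := RelTwistX.isQuasiProjective_of_isProjective hp
  haveI : QuasiCompact j := by
    haveI : QuasiCompact (j ≫ p) := by rw [hj]; infer_instance
    exact QuasiCompact.of_comp j p
  refine ⟨inferInstance, inferInstance, (Scheme.Modules.pullback j).obj L, ?_⟩
  rw [← hj]
  exact AmpleX.isRelAmple_pullback_embedding p j j.isOpenEmbedding.isEmbedding hA

end Groth.Agent.RelQuot
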