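import Groth.Agent.RelQuot.Projective
import Groth.Agent.VeryAmpleX.SigProduct
import Groth.Agent.KFlatLib.Scheme.Exact
import Groth.Agent.QCoh.FT
import Groth.Agent.QCoh.TensorSections

/-!
# Products of projective morphisms
-/

universe u

open CategoryTheory CategoryTheory.Limits AlgebraicGeometry TopologicalSpace Opposite

set_option linter.style.haveILetI false
set_option backward.isDefEq.respectTransparency false
set_option backward.isDefEq.respectTransparency.types false
set_option maxHeartbeats 800000

noncomputable section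

namespace Groth.Agent.RelQuot

open Groth.Agent Groth.Agent.VeryAmpleX

/-- Two projective schemes over a base have projective fibre product. -/
theorem isProjective_fibreProduct {X X' W T : Scheme.{u}} {f : X ⟶ T} {f' : X' ⟶ T} {p₁ : W ⟶ X} {p₂ : W ⟶ X'}
    (hsq : IsPullback p₁ p₂ f f') (hf : RelProj.IsProjective f) (hf' : RelProj.IsProjective f') :
    RelProj.IsProjective (p₁ ≫ f) := by
  haveI := ProjLoc.isProper_of_isProjective hf
  haveI := ProjLoc.isProper_of_isProjective hf'
  haveI : IsProper p₁ := MorphismProperty.of_isPullback hsq.flip ‹IsProper f'›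
  obtain ⟨L, hL, E, hE, hft, σ, hσ⟩ := exists_immAt_of_isProjective hf
  obtain ⟨L', hL', E', hE', hft', σ', hσ'⟩ := exists_immAt_of_isProjective hf'
  refine isProjective_of_immAt (KFlatLib.isQCoh_tensor hE hE') ((QCoh.isFT_iff (KFlatLib.isQCoh_tensor hE hE')).2 fun U => ?_)
    (Sig.tensMap (Sig.pullMap σ p₁) (Sig.sndMap hsq.w σ')) fun w => (hσ _).product hsq hL hL' (hσ' _)
  haveI := QCoh.finite_of_isFT hE hft U.2
  haveI := QCoh.finite_of_isFT hE' hft' U.2
  exact Module.Finite.of_surjective (QCoh.tmLin E E' U.1) (QCoh.bijective_tmLin hE hE' U.2).2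

theorem isProjective_pullbackMap {X X' Y Y' S : Scheme.{u}} (a : Y ⟶ S) (a' : Y' ⟶ S) (f : X ⟶ Y) (f' : X' ⟶ Y')
    (hf : RelProj.IsProjective f) (hf' : RelProj.IsProjective f') :
    RelProj.IsProjective (pullback.map (f ≫ a) (f' ≫ a') a a' f f' (𝟙 S) (Category.comp_id (f ≫ a))
      (Category.comp_id (f' ≫ a'))) := by
  let m := pullback.map (f ≫ a) (f' ≫ a') a a' f f' (𝟙 S) (Category.comp_id (f ≫ a)) (Category.comp_id (f' ≫ a'))
  let g₁ := pullback.snd f (pullback.fst a a')
  let g₂ := pullback.snd f' (pullback.snd a a')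
  let W := pullback g₁ g₂
  have h₁ : RelProj.IsProjective g₁ := isProjective_baseChange (IsPullback.of_hasPullback _ _) hf
  have h₂ : RelProj.IsProjective g₂ := isProjective_baseChange (IsPullback.of_hasPullback _ _) hf'
  have hW : RelProj.IsProjective (pullback.fst g₁ g₂ ≫ g₁) :=
    isProjective_fibreProduct (IsPullback.of_hasPullback g₁ g₂) h₁ h₂
  let u : W ⟶ pullback (f ≫ a) (f' ≫ a') :=
    pullback.lift (pullback.fst g₁ g₂ ≫ pullback.fst f (pullback.fst a a'))
      (pullback.snd g₁ g₂ ≫ pullback.fst f' (pullback.snd a a')) (by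
        have e₁ : pullback.fst f (pullback.fst a a') ≫ f = g₁ ≫ pullback.fst a a' := pullback.condition
        have e₂ : pullback.fst f' (pullback.snd a a') ≫ f' = g₂ ≫ pullback.snd a a' := pullback.condition
        have e₃ : pullback.fst g₁ g₂ ≫ g₁ = pullback.snd g₁ g₂ ≫ g₂ := pullback.condition
        rw [Category.assoc, Category.assoc, reassoc_of% e₁, reassoc_of% e₂, reassoc_of% e₃, pullback.condition])
  let v₁ : pullback (f ≫ a) (f' ≫ a') ⟶ pullback f (pullback.fst a a') :=
    pullback.lift (pullback.fst _ _) m (by simp [m])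
  let v₂ : pullback (f ≫ a) (f' ≫ a') ⟶ pullback f' (pullback.snd a a') :=
    pullback.lift (pullback.snd _ _) m (by simp [m])
  let v : pullback (f ≫ a) (f' ≫ a') ⟶ W := pullback.lift v₁ v₂ (by simp [v₁, v₂, g₁, g₂])
  have hc : pullback.fst g₁ g₂ ≫ pullback.snd f (pullback.fst a a') =
      pullback.snd g₁ g₂ ≫ pullback.snd f' (pullback.snd a a') := pullback.condition
  have hu : u ≫ m = pullback.fst g₁ g₂ ≫ g₁ := by
    have e₁ : pullback.fst f (pullback.fst a a') ≫ f = g₁ ≫ pullback.fst a a' := pullback.condition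
    have e₂ : pullback.fst f' (pullback.snd a a') ≫ f' = g₂ ≫ pullback.snd a a' := pullback.condition
    apply pullback.hom_ext
    · simp only [u, m, Category.assoc, pullback.lift_fst, pullback.lift_fst_assoc, e₁]
    · simp only [u, m, Category.assoc, pullback.lift_snd, pullback.lift_snd_assoc, e₂]
      exact ((Category.assoc _ _ _).symm.trans ((congrArg (· ≫ pullback.snd a a') hc).symm.trans (Category.assoc _ _ _)))
  have hvu : v ≫ u = 𝟙 _ := by
    apply pullback.hom_ext <;> simp [v, u, v₁, v₂]
  have huv : u ≫ v = 𝟙 _ := by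
    apply pullback.hom_ext
    · apply pullback.hom_ext
      · simp [v, u, v₁]
      · simp only [Category.assoc, Category.id_comp, v, pullback.lift_fst, v₁, pullback.lift_snd]
        exact hu
    · apply pullback.hom_ext
      · simp [v, u, v₂]
      · simp only [Category.assoc, Category.id_comp, v, pullback.lift_snd, v₂]
        exact hu.trans pullback.condition
  have := isProjective_of_iso (⟨v, u, hvu, huv⟩ : pullback (f ≫ a) (f' ≫ a') ≅ W) hW
  rw [← hu, ← Category.assoc, hvu, Category.id_comp] at this
  exact this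

end Groth.Agent.RelQuot
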