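import Groth.Agent.RelQuot.ClosedSub

/-!
# Morphisms of relative `Proj`s in the chartwise form
-/

universe u

open CategoryTheory CategoryTheory.Limits AlgebraicGeometry TopologicalSpace Opposite HomogeneousLocalization
open scoped HomogeneousIdeal

set_option linter.style.haveILetI false
set_option backward.isDefEq.respectTransparency false
set_option backward.isDefEq.respectTransparency.types false
set_option maxHeartbeats 1000000

noncomputable section

namespace Groth.Agent.RelQuot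

open Groth.Agent

theorem awayMap_comp {A B C : Type u} [CommRing A] [CommRing B] [CommRing C] {𝒜 : ℕ → AddSubgroup A}
    {ℬ : ℕ → AddSubgroup B} {𝒞 : ℕ → AddSubgroup C} [GradedRing 𝒜] [GradedRing ℬ] [GradedRing 𝒞]
    (ψ : ℬ →+*ᵍ 𝒞) (χ : 𝒜 →+*ᵍ ℬ) {d : ℕ} {f : A} (hf : f ∈ 𝒜 d) :
    CommRingCat.ofHom (Away.map (ψ.comp χ) f) =
      CommRingCat.ofHom (Away.map χ f) ≫ CommRingCat.ofHom (Away.map ψ (χ f)) := by
  refine CommRingCat.hom_ext (RingHom.ext fun x => ?_)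
  obtain ⟨n, a, ha, rfl⟩ := x.mk_surjective 𝒜 hf
  rw [CommRingCat.hom_comp, CommRingCat.hom_ofHom, CommRingCat.hom_ofHom, CommRingCat.hom_ofHom,
    RingHom.comp_apply, Away.map_mk, Away.map_mk]
  exact (Away.map_mk ψ (χ f) (χ.map_mem hf) n (χ a) (χ.map_mem ha)).symm

variable {S P : Scheme.{u}} {𝒜 : RelProj.QCGrAlg S} {p : P ⟶ S}
  {chart : ∀ (U : S.Opens) (hU : IsAffineOpen U), (((p ⁻¹ᵁ U : P.Opens) : Scheme.{u}) ≅ Proj (𝒜.deg U hU))}
  (hP : RelProj.IsRelProj 𝒜 p chart)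

include hP in
/-- Standard charts of a smaller affine open, in those of a larger one. -/
theorem SpecMap_res_stdChart_of_le {U U' : S.Opens} (hU : IsAffineOpen U) (hU' : IsAffineOpen U') (hle : U' ≤ U)
    {d : ℕ} (hd : 0 < d) (f : 𝒜.presheaf.obj (op U)) (hf : f ∈ 𝒜.deg U hU d) :
    Spec.map (CommRingCat.ofHom (Away.map (𝒜.res hU hU' hle) f)) ≫ stdChart chart U hU hd f hf =
      stdChart chart U' hU' hd (𝒜.res hU hU' hle f) ((𝒜.res hU hU' hle).map_mem hf) := by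
  refine Scheme.hom_ext_of_forall _ _ fun z => ?_
  have hz : p (stdChart chart U' hU' hd (𝒜.res hU hU' hle f) ((𝒜.res hU hU' hle).map_mem hf) z) ∈ U' := by
    have h : stdChart chart U' hU' hd (𝒜.res hU hU' hle f) ((𝒜.res hU hU' hle).map_mem hf) z ∈
        (RelProj.emb p chart U' hU').opensRange := ⟨_, (Scheme.Hom.comp_apply _ _ z).symm⟩
    rwa [RelTildeX.opensRange_emb] at h
  obtain ⟨D, hD, g, g', hxD⟩ := RelTwistX.exists_good hU hU' (hle hz) hz
  have key : ∀ χ : 𝒜.deg U hU →+*ᵍ 𝒜.deg D hD, χ = 𝒜.res hU hD g.le →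
      Spec.map (CommRingCat.ofHom (Away.map χ f)) ≫ stdChart chart U hU hd f hf =
        stdChart chart D hD hd (χ f) (χ.map_mem hf) := by
    rintro _ rfl
    exact SpecMap_res_stdChart hP g hU hD hd f hf
  have hcomp : (𝒜.res hU' hD g'.le).comp (𝒜.res hU hU' hle) = 𝒜.res hU hD g.le := by
    ext x
    exact congr($(𝒜.presheaf.map_comp (homOfLE hle).op (homOfLE g'.le).op) x).symm
  let j := Spec.map (CommRingCat.ofHom (Away.map (𝒜.res hU' hD g'.le) (𝒜.res hU hU' hle f)))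
  have h1 : j ≫ stdChart chart U' hU' hd (𝒜.res hU hU' hle f) ((𝒜.res hU hU' hle).map_mem hf) =
      stdChart chart D hD hd (𝒜.res hU' hD g'.le (𝒜.res hU hU' hle f))
        ((𝒜.res hU' hD g'.le).map_mem ((𝒜.res hU hU' hle).map_mem hf)) :=
    SpecMap_res_stdChart hP g' hU' hD hd _ _
  haveI : IsOpenImmersion j := by
    haveI : IsOpenImmersion (j ≫ stdChart chart U' hU' hd (𝒜.res hU hU' hle f) ((𝒜.res hU hU' hle).map_mem hf)) := by
      rw [h1]; infer_instance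
    exact IsOpenImmersion.of_comp j
      (stdChart chart U' hU' hd (𝒜.res hU hU' hle f) ((𝒜.res hU hU' hle).map_mem hf))
  have hzmem : z ∈ j.opensRange := by
    have hpb : IsPullback (Spec.map (CommRingCat.ofHom (Away.map (𝒜.res hU' hD g'.le) (𝒜.res hU hU' hle f))))
        (Proj.awayι _ _ ((𝒜.res hU' hD g'.le).map_mem ((𝒜.res hU hU' hle).map_mem hf)) hd)
        (Proj.awayι _ _ ((𝒜.res hU hU' hle).map_mem hf) hd) (Proj.map (𝒜.res hU' hD g'.le) (g'.irr hU' hD)) := by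
      refine IsOpenImmersion.isPullback _ _ _ _
        (Proj.awayι_comp_map (𝒜.res hU' hD g'.le) (g'.irr hU' hD) hd _ ((𝒜.res hU hU' hle).map_mem hf)) ?_
      rw [Proj.opensRange_awayι, Proj.opensRange_awayι, Proj.map_preimage_basicOpen]
    obtain ⟨w, hw⟩ : (stdChart chart U' hU' hd (𝒜.res hU hU' hle f) ((𝒜.res hU hU' hle).map_mem hf) z) ∈
        (RelProj.emb p chart D hD).opensRange := by rw [RelTildeX.opensRange_emb]; exact hxD
    rw [← g'.map_emb hP hU' hD, Scheme.Hom.comp_apply, stdChart, Scheme.Hom.comp_apply] at hw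
    obtain ⟨v, hv, -⟩ := Scheme.exists_preimage_of_isPullback hpb z w ((RelProj.emb p chart U' hU').isOpenEmbedding.injective hw).symm
    exact ⟨v, hv⟩
  refine ⟨j.opensRange, hzmem, ?_⟩
  rw [← cancel_epi j.isoOpensRange.hom, Scheme.Hom.isoOpensRange_hom_ι_assoc, Scheme.Hom.isoOpensRange_hom_ι_assoc,
    h1, ← Category.assoc, ← Spec.map_comp, ← awayMap_comp (𝒜.res hU' hD g'.le) (𝒜.res hU hU' hle) hf]
  exact key _ hcomp

section qmap

variable {ℬ : RelProj.QCGrAlg S} {φ : 𝒜.toQCAlg ⟶ ℬ.toQCAlg} {hφ : RelProj.IsGradedHom φ}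
  {hirr : ∀ (U : S.Opens) (hU : IsAffineOpen U),
      (ℬ.deg U hU)₊ ≤ ((𝒜.deg U hU)₊).map (RelProj.gradedHomAt φ hφ U hU)}
  {PB : Scheme.{u}} {pB : PB ⟶ S}
  {chartB : ∀ (U : S.Opens) (hU : IsAffineOpen U), (((pB ⁻¹ᵁ U : PB.Opens) : Scheme.{u}) ≅ Proj (ℬ.deg U hU))}
  (hB : RelProj.IsRelProj ℬ pB chartB) {h : PB ⟶ P} (hh : RelProj.IsRelProjMap φ hφ hirr chart chartB h)

include hirr in
theorem domQ_eq_top : RelProj.domQ (RelProj.QGrHom.ofHom φ hφ) pB chartB = ⊤ := by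
  refine top_unique fun y _ => ?_
  obtain ⟨U, hU, hyU, -⟩ := exists_isAffineOpen_mem_and_subset (X := S) (x := pB y) (U := ⊤) trivial
  obtain ⟨w, hw⟩ : y ∈ (RelProj.emb pB chartB U hU).opensRange := by rw [RelTildeX.opensRange_emb]; exact hyU
  refine Opens.mem_iSup.2 ⟨⟨(⟨U, hU⟩, ⟨U, hU⟩), le_rfl⟩, ⟨w, ?_, hw⟩⟩
  refine (RelCone.mem_domOpen _ w).2 ?_
  by_contra! hcon
  refine w.not_irrelevant_le ((hirr U hU).trans ?_)
  refine Ideal.map_le_iff_le_comap.2 fun a ha => ?_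
  have h1 := hcon a ha
  have h2 : (RelProj.QGrHom.ofHom φ hφ).gradedAt U hU U hU le_rfl a = RelProj.gradedHomAt φ hφ U hU a :=
    congr($(ℬ.presheaf.map_id (op U)) ((φ.hom.app (op U)) a))
  rw [h2] at h1
  exact h1

include hP hB hh in
theorem awayEmb_comp (U : S.Opens) (hU : IsAffineOpen U) (U' : S.Opens) (hU' : IsAffineOpen U') (hle : U' ≤ U)
    {d : ℕ} (hd : 0 < d) (f : 𝒜.presheaf.obj (op U)) (hf : f ∈ 𝒜.deg U hU d)
    (χ : 𝒜.deg U hU →+*ᵍ ℬ.deg U' hU') (hχ : χ = (RelProj.gradedHomAt φ hφ U' hU').comp (𝒜.res hU hU' hle)) :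
    stdChart chartB U' hU' hd (χ f) (χ.map_mem hf) ≫ h =
      Spec.map (CommRingCat.ofHom (Away.map χ f)) ≫ stdChart chart U hU hd f hf := by
  subst hχ
  rw [awayMap_comp (RelProj.gradedHomAt φ hφ U' hU') (𝒜.res hU hU' hle) hf, Spec.map_comp, Category.assoc,
    SpecMap_res_stdChart_of_le hP hU hU' hle hd f hf, stdChart, stdChart, Category.assoc,
    emb_relProjMap hh U' hU', ← Category.assoc]
  exact (congrArg (· ≫ RelProj.emb p chart U' hU')
    (Proj.awayι_comp_map (RelProj.gradedHomAt φ hφ U' hU') (hirr U' hU') hd _ ((𝒜.res hU hU' hle).map_mem hf))).trans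
    (Category.assoc _ _ _)

include hP hB hh in
theorem isProjQMap_of_isRelProjMap : RelProj.IsProjQMap (RelProj.QGrHom.ofHom φ hφ) p chart pB chartB h := by
  refine ⟨domQ_eq_top (hirr := hirr), fun U hU U' hU' hle d hd f hf => ?_⟩
  refine awayEmb_comp hP hB hh U hU U' hU' hle hd f hf
    ((RelProj.QGrHom.ofHom φ hφ).gradedAt U hU U' hU' hle) ?_
  ext x
  exact congr($(φ.hom.naturality (homOfLE hle).op) x).symm

end qmap

end Groth.Agent.RelQuot
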